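import Groth.Agent.Lib.FSchSys.Ker

/-!
# Powers of finite type ideal sheaves
-/

universe u

open CategoryTheory AlgebraicGeometry Scheme

namespace GrothLib.FSchSys

variable {X Y : Scheme.{u}}

/-- On a quasi-compact scheme, an ideal sheaf of finite type with smaller zero locus has a power
inside the other ideal sheaf. -/
lemma exists_pow_le_of_support_subset [CompactSpace Y] (I I' : Y.IdealSheafData)
    (hI : ∀ y : Y, ∃ U : Y.affineOpens, y ∈ U.1 ∧ (I.ideal U).FG)
    (h : (I'.support : Set Y) ⊆ I.support) : ∃ n : ℕ, I ^ (n + 1) ≤ I' := by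
  choose U hU hfg using hI
  obtain ⟨t, ht⟩ := isCompact_univ.elim_finite_subcover (fun y : Y => ((U y).1 : Set Y))
    (fun y => (U y).1.2) fun y _ => Set.mem_iUnion.2 ⟨y, hU y⟩
  have hpow : ∀ y : Y, ∃ n : ℕ, I.ideal (U y) ^ n ≤ I'.ideal (U y) := by
    intro y
    refine Ideal.exists_pow_le_of_le_radical_of_fg ?_ (hfg y)
    rw [← PrimeSpectrum.zeroLocus_subset_zeroLocus_iff,
      ← (U y).2.fromSpec_preimage_zeroLocus (I'.ideal (U y) : Set Γ(Y, (U y).1)),
      ← (U y).2.fromSpec_preimage_zeroLocus (I.ideal (U y) : Set Γ(Y, (U y).1))]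
    intro p hp
    have hpU : (U y).2.fromSpec p ∈ (U y).1 := by
      rw [← SetLike.mem_coe, ← (U y).2.range_fromSpec]
      exact Set.mem_range_self p
    have h1 : (U y).2.fromSpec p ∈ (I'.support : Set Y) :=
      ((IdealSheafData.coe_support_inter I' (U y)).ge ⟨hp, hpU⟩).1
    exact ((IdealSheafData.coe_support_inter I (U y)).le ⟨h h1, hpU⟩).1
  choose n hn using hpow
  refine ⟨t.sup n, IdealSheafData.le_of_iSup_eq_top (fun y : t => U y.1) ?_ ?_⟩
  · rw [eq_top_iff]
    intro x _
    obtain ⟨y, hy, hxy⟩ := Set.mem_iUnion₂.1 (ht (Set.mem_univ x))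
    exact TopologicalSpace.Opens.mem_iSup.2 ⟨⟨y, hy⟩, hxy⟩
  · intro y
    rw [IdealSheafData.ideal_pow]
    exact (Ideal.pow_le_pow_right (Nat.le_succ_of_le (Finset.le_sup y.2))).trans (hn y.1)

/-- A morphism from a quasi-compact scheme landing set theoretically in the zero locus of a finite
type ideal sheaf factors through one of its infinitesimal neighbourhoods. -/
lemma exists_lift_subscheme_pow [CompactSpace X] (f : X ⟶ Y) (J : Y.IdealSheafData)
    (hJ : ∀ V : Y.affineOpens, (J.ideal V).FG) (h : ∀ x, f x ∈ (J.support : Set Y)) :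
    ∃ (n : ℕ) (g : X ⟶ (J ^ (n + 1)).subscheme), g ≫ (J ^ (n + 1)).subschemeι = f := by
  have hfg : ∀ x : X, ∃ U : X.affineOpens, x ∈ U.1 ∧ ((J.comap f).ideal U).FG := by
    intro x
    obtain ⟨U, V, hxV, hVU⟩ := exists_affine_pair f x
    refine ⟨V, hxV, ?_⟩
    rw [BlowUp.ideal_comap_eq_map _ f U V hVU]
    exact (hJ U).map _
  have hsupp : ((⊥ : X.IdealSheafData).support : Set X) ⊆ (J.comap f).support := by
    intro x _
    rw [IdealSheafData.support_comap]
    exact h x
  obtain ⟨n, hn⟩ := exists_pow_le_of_support_subset (J.comap f) ⊥ hfg hsupp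
  have hle : J ^ (n + 1) ≤ f.ker := by
    rw [← comap_pow, ← IdealSheafData.le_map_iff_comap_le, IdealSheafData.map_bot] at hn
    exact hn
  refine ⟨n, f.toImage ≫ IdealSheafData.inclusion hle, ?_⟩
  rw [Category.assoc, IdealSheafData.inclusion_subschemeι]
  exact f.toImage_imageι

end GrothLib.FSchSys
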