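import Groth.Agent.Lib.FSchSys.Basic

/-!
# The completion of a scheme along a closed subscheme, and formal spectra
-/

universe u

open CategoryTheory CategoryTheory.Limits AlgebraicGeometry Scheme

namespace GrothLib.FSchSys

variable {X Y : Scheme.{u}} (𝓘 : X.IdealSheafData)

instance isClosedImmersion_completionToX (n : ℕ) :
    IsClosedImmersion (FSch.completionToX X 𝓘 n) :=
  inferInstanceAs (IsClosedImmersion (𝓘 ^ (n + 1)).subschemeι)

lemma ker_completionToX (n : ℕ) : (FSch.completionToX X 𝓘 n).ker = 𝓘 ^ (n + 1) :=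
  (𝓘 ^ (n + 1)).ker_subschemeι

lemma range_completionToX (n : ℕ) :
    Set.range (FSch.completionToX X 𝓘 n) = 𝓘.support :=
  ((𝓘 ^ (n + 1)).range_subschemeι).trans (by rw [IdealSheafData.support_pow_succ])

lemma ι_completionToX (n : ℕ) :
    (FSch.completionAlong X 𝓘).ι n ≫ FSch.completionToX X 𝓘 (n + 1) =
      FSch.completionToX X 𝓘 n :=
  IdealSheafData.inclusion_subschemeι _

lemma toX_completionToX :
    ∀ n, (FSch.completionAlong X 𝓘).toX n ≫ FSch.completionToX X 𝓘 n =
      FSch.completionToX X 𝓘 0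
  | 0 => Category.id_comp _
  | n + 1 => by
    simp only [FSch.Sys.toX, Category.assoc]
    rw [ι_completionToX, toX_completionToX n]

lemma isFormal_completionAlong : (FSch.completionAlong X 𝓘).IsFormal := fun n => by
  have h := ι_completionToX 𝓘 n
  have : IsClosedImmersion ((FSch.completionAlong X 𝓘).ι n ≫ FSch.completionToX X 𝓘 (n + 1)) := by
    rw [h]; infer_instance
  refine ⟨IsClosedImmersion.of_comp_isClosedImmersion _ (FSch.completionToX X 𝓘 (n + 1)), fun z => ?_⟩
  have hz : (FSch.completionToX X 𝓘 (n + 1)) z ∈ Set.range (FSch.completionToX X 𝓘 n) := by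
    rw [range_completionToX, ← range_completionToX 𝓘 (n + 1)]
    exact ⟨z, rfl⟩
  obtain ⟨w, hw⟩ := hz
  refine ⟨w, (FSch.completionToX X 𝓘 (n + 1)).isClosedEmbedding.injective ?_⟩
  rw [← hw, ← Scheme.Hom.comp_apply, h]

lemma isAdic_completionAlong : (FSch.completionAlong X 𝓘).IsAdic := fun n => by
  rw [ker_eq_comap_of_comp_eq (ι_completionToX 𝓘 n),
    ker_eq_comap_of_comp_eq (toX_completionToX 𝓘 (n + 1)),
    ker_completionToX, ker_completionToX, comap_pow, zero_add, pow_one]

lemma isLocallyNoetherian_completion [IsLocallyNoetherian X] (n : ℕ) :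
    IsLocallyNoetherian ((FSch.completionAlong X 𝓘).X n) :=
  LocallyOfFiniteType.isLocallyNoetherian (FSch.completionToX X 𝓘 n)

variable {A : Type u} [CommRing A] (J : Ideal A)

lemma spec_map_surjective_isClosedImmersion {R S : Type u} [CommRing R] [CommRing S] (φ : R →+* S)
    (hφ : Function.Surjective φ) : IsClosedImmersion (Spec.map (CommRingCat.ofHom φ)) :=
  IsClosedImmersion.spec_of_surjective _ hφ

lemma ι_spfToSpec (n : ℕ) :
    (FSch.spf A J).ι n ≫ FSch.spfToSpec A J (n + 1) = FSch.spfToSpec A J n := by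
  simp only [FSch.spf, FSch.spfToSpec, CohB1.specQuotTrans, CohB1.specQuot]
  rw [← Spec.map_comp, ← CommRingCat.ofHom_comp, Ideal.Quotient.factor_comp_mk]

lemma toX_spfToSpec :
    ∀ n, (FSch.spf A J).toX n ≫ FSch.spfToSpec A J n = FSch.spfToSpec A J 0
  | 0 => Category.id_comp _
  | n + 1 => by
    simp only [FSch.Sys.toX, Category.assoc]
    rw [ι_spfToSpec, toX_spfToSpec n]

instance isClosedImmersion_spfToSpec (n : ℕ) : IsClosedImmersion (FSch.spfToSpec A J n) :=
  spec_map_surjective_isClosedImmersion _ Ideal.Quotient.mk_surjective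

lemma range_spfToSpec (n : ℕ) :
    Set.range (FSch.spfToSpec A J n) = PrimeSpectrum.zeroLocus (J : Set A) := by
  have := range_comap_of_surjective (A ⧸ J ^ (n + 1))
    (Ideal.Quotient.mk (J ^ (n + 1))) Ideal.Quotient.mk_surjective
  rw [Ideal.mk_ker, PrimeSpectrum.zeroLocus_pow _ (Nat.succ_ne_zero n)] at this
  exact this

lemma isFormal_spf : (FSch.spf A J).IsFormal := fun n => by
  have h := ι_spfToSpec J n
  have : IsClosedImmersion ((FSch.spf A J).ι n ≫ FSch.spfToSpec A J (n + 1)) := by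
    rw [h]; infer_instance
  refine ⟨IsClosedImmersion.of_comp_isClosedImmersion _ (FSch.spfToSpec A J (n + 1)), fun z => ?_⟩
  obtain ⟨w, hw⟩ : (FSch.spfToSpec A J (n + 1)) z ∈ Set.range (FSch.spfToSpec A J n) := by
    rw [range_spfToSpec, ← range_spfToSpec J (n + 1)]
    exact ⟨z, rfl⟩
  refine ⟨w, (FSch.spfToSpec A J (n + 1)).isClosedEmbedding.injective ?_⟩
  rw [← hw, ← Scheme.Hom.comp_apply, h]

/-- The ideal of sections of the kernel of `Spec` of a quotient map. -/
lemma ker_spec_quot_top (I : Ideal A) :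
    ((Spec.map (CommRingCat.ofHom (Ideal.Quotient.mk I))).ker).ideal
        ⟨⊤, isAffineOpen_top _⟩ =
      I.map (Scheme.ΓSpecIso (CommRingCat.of A)).inv.hom := by
  rw [ker_of_isAffine]
  simp only [IdealSheafData.ofIdealTop_ideal, homOfLE_refl, op_id, CategoryTheory.Functor.map_id,
    CommRingCat.hom_id, Ideal.map_id]
  have h := Scheme.ΓSpecIso_inv_naturality (CommRingCat.ofHom (Ideal.Quotient.mk I))
  have hb := ConcreteCategory.bijective_of_isIso (Scheme.ΓSpecIso (CommRingCat.of A)).inv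
  have hb' := ConcreteCategory.bijective_of_isIso (Scheme.ΓSpecIso (CommRingCat.of (A ⧸ I))).inv
  apply Ideal.comap_injective_of_surjective _ hb.2
  rw [Ideal.comap_map_of_bijective _ hb, RingHom.comap_ker]
  ext a
  have ha := congr($h a)
  simp only [CategoryTheory.comp_apply] at ha
  rw [RingHom.mem_ker, RingHom.comp_apply]
  erw [← ha]
  rw [← Ideal.Quotient.eq_zero_iff_mem]
  exact map_eq_zero_iff _ hb'.1

lemma ker_spec_quot_pow (I : Ideal A) (n : ℕ) :
    (Spec.map (CommRingCat.ofHom (Ideal.Quotient.mk (I ^ n)))).ker =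
      (Spec.map (CommRingCat.ofHom (Ideal.Quotient.mk I))).ker ^ n := by
  apply IdealSheafData.ext_of_isAffine
  rw [IdealSheafData.ideal_pow, Pi.pow_apply, ker_spec_quot_top, ker_spec_quot_top, Ideal.map_pow]

lemma ker_spfToSpec (n : ℕ) :
    (FSch.spfToSpec A J n).ker = FSch.idealSpec A J ^ (n + 1) :=
  ker_spec_quot_pow J (n + 1)

lemma isAdic_spf : (FSch.spf A J).IsAdic := fun n => by
  have := (isFormal_spf J n).1
  rw [ker_eq_comap_of_comp_eq (ι_spfToSpec J n),
    ker_eq_comap_of_comp_eq (toX_spfToSpec J (n + 1)), ker_spfToSpec, ker_spfToSpec,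
    comap_pow, zero_add, pow_one]

end GrothLib.FSchSys

namespace GrothLib.FSchSys

variable {X Y : Scheme.{u}} (f : X ⟶ Y) (𝓚 : Y.IdealSheafData)

lemma completionMap_app_completionToX (𝓘 : X.IdealSheafData) (h : FSch.PowCompat f 𝓘 𝓚) (n : ℕ) :
    (FSch.completionMap f 𝓘 𝓚 h : FSch.Hom _ _).app n ≫ FSch.completionToX Y 𝓚 n =
      FSch.completionToX X 𝓘 n ≫ f :=
  IdealSheafData.subschemeMap_subschemeι (𝓘 ^ (n + 1)) (𝓚 ^ (n + 1)) f
    (IdealSheafData.le_map_iff_comap_le.mpr (h n))

/-- The completion along an inverse image ideal is the base change of the completion. -/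
lemma isPullback_completionMap (h : FSch.PowCompat f (𝓚.comap f) 𝓚) (n : ℕ) :
    IsPullback (FSch.completionToX X (𝓚.comap f) n)
      ((FSch.completionMap f (𝓚.comap f) 𝓚 h : FSch.Hom _ _).app n) f
      (FSch.completionToX Y 𝓚 n) :=
  AlgebraicGeometry.isPullback_of_isClosedImmersion _ _ _ _
    (completionMap_app_completionToX f 𝓚 _ h n).symm
    (by rw [ker_completionToX, ker_completionToX, comap_pow])

lemma isAdicHom_completionMap (h : FSch.PowCompat f (𝓚.comap f) 𝓚) :
    FSch.IsAdicHom (FSch.completionMap f (𝓚.comap f) 𝓚 h) := fun n => by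
  refine IsPullback.of_right (t := isPullback_completionMap f 𝓚 h (n + 1)) ?_ ?_
  · rw [ι_completionToX, ι_completionToX]
    exact isPullback_completionMap f 𝓚 h n
  · exact ((FSch.completionMap f (𝓚.comap f) 𝓚 h : FSch.Hom _ _).comm n).symm

/-- A square of systems is cartesian if it is so levelwise. -/
lemma isPullback_of_levelwise {P A B S : FSch.Sys.{u}} {p : P ⟶ A} {q : P ⟶ B} {f : A ⟶ S}
    {g : B ⟶ S}
    (h : ∀ n, IsPullback ((p : FSch.Hom P A).app n) ((q : FSch.Hom P B).app n)
      ((f : FSch.Hom A S).app n) ((g : FSch.Hom B S).app n)) :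
    IsPullback p q f g := by
  have w : p ≫ f = q ≫ g := FSch.Hom.ext (funext fun n => (h n).w)
  have hw : ∀ (s : PullbackCone f g) (n : ℕ),
      (s.fst : FSch.Hom s.pt A).app n ≫ (f : FSch.Hom A S).app n =
        (s.snd : FSch.Hom s.pt B).app n ≫ (g : FSch.Hom B S).app n := fun s n =>
    congr($(congrArg FSch.Hom.app s.condition) n)
  refine IsPullback.of_isLimit' ⟨w⟩ (PullbackCone.IsLimit.mk _
    (fun s => ⟨fun n => (h n).lift _ _ (hw s n), fun n => ?_⟩) (fun s => ?_) (fun s => ?_)
    (fun s m h₁ h₂ => ?_))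
  · refine (h (n + 1)).hom_ext ?_ ?_
    · rw [Category.assoc, Category.assoc, ← (p : FSch.Hom P A).comm, IsPullback.lift_fst,
        ← Category.assoc, IsPullback.lift_fst]
      exact (s.fst : FSch.Hom s.pt A).comm n
    · rw [Category.assoc, Category.assoc, ← (q : FSch.Hom P B).comm, IsPullback.lift_snd,
        ← Category.assoc, IsPullback.lift_snd]
      exact (s.snd : FSch.Hom s.pt B).comm n
  · exact FSch.Hom.ext (funext fun n => (h n).lift_fst _ _ _)
  · exact FSch.Hom.ext (funext fun n => (h n).lift_snd _ _ _)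
  · refine FSch.Hom.ext (funext fun n => (h n).hom_ext ?_ ?_)
    · exact (congr($(congrArg FSch.Hom.app h₁) n)).trans ((h n).lift_fst _ _ _).symm
    · exact (congr($(congrArg FSch.Hom.app h₂) n)).trans ((h n).lift_snd _ _ _).symm

end GrothLib.FSchSys
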