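import Mathlib.AlgebraicGeometry.IdealSheaf.Functorial
import Mathlib.AlgebraicGeometry.Morphisms.ClosedImmersion
import Groth.Agent.Lib.BlowUp.IdealComap

/-!
# Kernels of closed immersions, inverse images and powers of ideal sheaves
-/

universe u

open CategoryTheory CategoryTheory.Limits AlgebraicGeometry Scheme

namespace GrothLib.FSchSys

variable {W X Y Z : Scheme.{u}}

/-- Every point has an affine neighbourhood mapping into an affine open of the target. -/
lemma exists_affine_pair (f : X ⟶ Y) (x : X) :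
    ∃ (U : Y.affineOpens) (V : X.affineOpens), x ∈ V.1 ∧ V.1 ≤ f ⁻¹ᵁ U.1 := by
  obtain ⟨_, ⟨U, hU, rfl⟩, hxU, -⟩ := Y.isBasis_affineOpens.exists_subset_of_mem_open
    (Set.mem_univ (f x)) isOpen_univ
  obtain ⟨_, ⟨V, hV, rfl⟩, hxV, hVU⟩ := X.isBasis_affineOpens.exists_subset_of_mem_open
    (show x ∈ f ⁻¹ᵁ U from hxU) (f ⁻¹ᵁ U).2
  exact ⟨⟨U, hU⟩, ⟨V, hV⟩, hxV, hVU⟩

/-- Inverse image of ideal sheaves commutes with products. -/
lemma comap_mul (I J : Y.IdealSheafData) (f : X ⟶ Y) :
    (I * J).comap f = I.comap f * J.comap f := by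
  let ι := {p : Y.affineOpens × X.affineOpens // p.2.1 ≤ f ⁻¹ᵁ p.1.1}
  apply IdealSheafData.ext_of_iSup_eq_top (fun p : ι => p.1.2)
  · rw [eq_top_iff]
    intro x _
    obtain ⟨U, V, hxV, hVU⟩ := exists_affine_pair f x
    exact TopologicalSpace.Opens.mem_iSup.mpr ⟨⟨(U, V), hVU⟩, hxV⟩
  · rintro ⟨⟨U, V⟩, h⟩
    simp only [IdealSheafData.ideal_mul, Pi.mul_apply,
      BlowUp.ideal_comap_eq_map _ f U V h, Ideal.map_mul]

/-- Inverse image of ideal sheaves commutes with powers. -/
lemma comap_pow (I : Y.IdealSheafData) (f : X ⟶ Y) :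
    ∀ n : ℕ, (I ^ n).comap f = I.comap f ^ n
  | 0 => by simp [IdealSheafData.comap_top]
  | n + 1 => by rw [pow_succ, pow_succ, comap_mul, comap_pow I f n]

/-- The kernel of the closed immersion in a cartesian square is the inverse image of the kernel. -/
lemma ker_eq_comap_of_isPullback {a : W ⟶ X} {b : W ⟶ Z} {f : X ⟶ Y} {i : Z ⟶ Y}
    [IsClosedImmersion i] (h : IsPullback a b f i) : a.ker = i.ker.comap f := by
  rw [← h.isoPullback_hom_fst, Hom.ker_comp_of_isIso, IdealSheafData.ker_fst_of_isClosedImmersion]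

/-- A commutative triangle over a monomorphism is a cartesian square. -/
lemma isPullback_of_comp_eq {a : W ⟶ X} {i : X ⟶ Y} {c : W ⟶ Y} [Mono i] (h : a ≫ i = c) :
    IsPullback a (𝟙 W) i c := by
  refine IsPullback.of_isLimit' ⟨by simp [h]⟩
    (PullbackCone.IsLimit.mk _ (fun s => s.snd) (fun s => ?_) (fun s => by simp)
      (fun s m _ h₂ => by simpa using h₂))
  rw [← cancel_mono i, Category.assoc, h]
  exact s.condition.symm

lemma ker_eq_comap_of_comp_eq {a : W ⟶ X} {i : X ⟶ Y} {c : W ⟶ Y} [Mono i] [IsClosedImmersion c]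
    (h : a ≫ i = c) : a.ker = c.ker.comap i :=
  ker_eq_comap_of_isPullback (isPullback_of_comp_eq h)

lemma comap_ker_self (i : X ⟶ Y) [IsClosedImmersion i] : i.ker.comap i = ⊥ := by
  rw [← ker_eq_comap_of_comp_eq (a := 𝟙 X) (i := i) (Category.id_comp i), Hom.ker_eq_bot_of_isIso]

lemma comap_subschemeι_self (I : X.IdealSheafData) : I.comap I.subschemeι = ⊥ := by
  conv_lhs => arg 1; rw [← I.ker_subschemeι]
  exact comap_ker_self _

lemma surjective_subschemeι_iff (I : X.IdealSheafData) :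
    Surjective I.subschemeι ↔ (I.support : Set X) = Set.univ := by
  rw [surjective_iff, ← Set.range_eq_univ, ← I.range_subschemeι]

end GrothLib.FSchSys
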