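import Groth.Prelude.Def_FSch3
import Groth.Agent.Lib.FSchSys.Ker
import Mathlib.AlgebraicGeometry.Noetherian

/-!
# Systems of thickenings: basic structure
-/

universe u

open CategoryTheory CategoryTheory.Limits AlgebraicGeometry Scheme

namespace GrothLib.FSchSys

variable {𝔛 𝔖 𝔜 : FSch.Sys.{u}}

lemma isClosedImmersion_toX (h : 𝔛.IsFormal) : ∀ n, IsClosedImmersion (𝔛.toX n)
  | 0 => by dsimp [FSch.Sys.toX]; infer_instance
  | n + 1 => by
    have := isClosedImmersion_toX h n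
    have := (h n).1
    dsimp [FSch.Sys.toX]; infer_instance

lemma surjective_toX (h : 𝔛.IsFormal) : ∀ n, Surjective (𝔛.toX n)
  | 0 => by dsimp [FSch.Sys.toX]; infer_instance
  | n + 1 => by
    have := surjective_toX h n
    have : Surjective (𝔛.ι n) := ⟨(h n).2⟩
    dsimp [FSch.Sys.toX]; infer_instance

lemma toX_one : 𝔛.toX 1 = 𝔛.ι 0 := Category.id_comp _

lemma ker_toX_eq_comap (h : 𝔛.IsFormal) (n : ℕ) :
    (𝔛.toX n).ker = (𝔛.toX (n + 1)).ker.comap (𝔛.ι n) := by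
  have := (h n).1
  have := isClosedImmersion_toX h (n + 1)
  exact ker_eq_comap_of_comp_eq rfl

/-- In an adic system the ideal of the smallest level in level `n` has `(n+1)`-st power zero. -/
lemma ker_toX_pow_eq_bot (h : 𝔛.IsFormal) (ha : 𝔛.IsAdic) (n : ℕ) :
    (𝔛.toX n).ker ^ (n + 1) = ⊥ := by
  have := (h n).1
  rw [ker_toX_eq_comap h, ← comap_pow, ← ha n, comap_ker_self]

lemma toX_comp_app (f : 𝔛 ⟶ 𝔖) :
    ∀ n, 𝔛.toX n ≫ (f : FSch.Hom 𝔛 𝔖).app n = (f : FSch.Hom 𝔛 𝔖).app 0 ≫ 𝔖.toX n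
  | 0 => by simp [FSch.Sys.toX]
  | n + 1 => by
    simp only [FSch.Sys.toX, Category.assoc]
    rw [← (f : FSch.Hom 𝔛 𝔖).comm n, ← Category.assoc, toX_comp_app f n, Category.assoc]

lemma isPullback_toX (f : 𝔛 ⟶ 𝔖) (hf : FSch.IsAdicHom f) :
    ∀ n, IsPullback (𝔛.toX n) ((f : FSch.Hom 𝔛 𝔖).app 0) ((f : FSch.Hom 𝔛 𝔖).app n) (𝔖.toX n)
  | 0 => by
    simp only [FSch.Sys.toX]
    exact IsPullback.of_horiz_isIso ⟨by simp⟩
  | n + 1 => (isPullback_toX f hf n).paste_horiz (hf n)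

lemma isFormal_of_isAdicHom (f : 𝔛 ⟶ 𝔖) (hf : FSch.IsAdicHom f) (h : 𝔖.IsFormal) :
    𝔛.IsFormal := fun n => by
  refine ⟨MorphismProperty.of_isPullback (P := @IsClosedImmersion) (hf n).flip (h n).1, ?_⟩
  have : Surjective (𝔛.ι n) :=
    MorphismProperty.of_isPullback (P := @Surjective) (hf n).flip ⟨(h n).2⟩
  exact this.surj

lemma isAdic_of_isAdicHom (f : 𝔛 ⟶ 𝔖) (hf : FSch.IsAdicHom f) (h : 𝔖.IsFormal)
    (ha : 𝔖.IsAdic) : 𝔛.IsAdic := fun n => by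
  have := (h n).1
  have := isClosedImmersion_toX h (n + 1)
  rw [ker_eq_comap_of_isPullback (hf n), ker_eq_comap_of_isPullback (isPullback_toX f hf (n + 1)),
    ha n, comap_pow]

end GrothLib.FSchSys
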