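import Mathlib.RingTheory.FiniteType
import Mathlib.RingTheory.RingHom.FiniteType
import Mathlib.RingTheory.Noetherian.Basic
import Mathlib.RingTheory.Finiteness.Ideal
import Mathlib.RingTheory.Nilpotent.Basic
import Groth.Agent.Lib.AdicLim.Noeth

/-!
# Ring lemmas for nilpotent thickenings
-/

universe u

namespace GrothLib.FSchSys

variable {A B C : Type*} [CommRing A] [CommRing B] [CommRing C]

/-- Nilpotent Nakayama: if `B = S + I B` and `I` is nilpotent then `S = B`. -/
lemma eq_top_of_forall_exists_sub_mem [Algebra A B] {I : Ideal A} {k : ℕ} (hk : I ^ k = ⊥)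
    (S : Submodule A B) (h : ∀ b, ∃ s ∈ S, b - s ∈ I.map (algebraMap A B)) : S = ⊤ := by
  have h1 : (⊤ : Submodule A B) ≤ S ⊔ I • ⊤ := fun b _ => by
    obtain ⟨s, hs, hbs⟩ := h b
    rw [← sub_add_cancel b s, add_comm]
    refine Submodule.add_mem_sup hs ?_
    rw [Ideal.smul_top_eq_map]
    exact hbs
  have key : ∀ n : ℕ, (⊤ : Submodule A B) ≤ S ⊔ I ^ n • ⊤ := by
    intro n
    induction n with
    | zero => rw [pow_zero, Ideal.one_eq_top, Submodule.top_smul]; exact le_sup_right
    | succ n ih =>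
      refine ih.trans (sup_le le_sup_left ?_)
      refine (Submodule.smul_mono le_rfl h1).trans ?_
      rw [Submodule.smul_sup, ← Submodule.smul_assoc, smul_eq_mul, ← pow_succ]
      exact sup_le (Submodule.smul_le_right.trans le_sup_left) le_sup_right
  have := key k
  rw [hk, Submodule.bot_smul, sup_bot_eq] at this
  exact top_le_iff.mp this

/-- Finite type can be tested modulo a nilpotent ideal of the base. -/
lemma finiteType_of_comp_surjective {φ : A →+* B} {ψ : B →+* C} (hψ : Function.Surjective ψ)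
    {I : Ideal A} {k : ℕ} (hk : I ^ k = ⊥) (hker : RingHom.ker ψ ≤ I.map φ)
    (h : (ψ.comp φ).FiniteType) : φ.FiniteType := by
  let := φ.toAlgebra
  let := (ψ.comp φ).toAlgebra
  let g : B →ₐ[A] C := { ψ with commutes' := fun a => rfl }
  obtain ⟨s, hs⟩ := (show Algebra.FiniteType A C from h).out
  choose l hl using hψ
  classical
  let T : Subalgebra A B := Algebra.adjoin A (↑(s.image l) : Set B)
  refine (show Algebra.FiniteType A B from ⟨⟨s.image l, ?_⟩⟩)
  change T = ⊤
  have hg : T.map g = ⊤ := by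
    rw [AlgHom.map_adjoin, ← hs]
    congr 1
    rw [Finset.coe_image, ← Set.image_comp]
    conv_rhs => rw [← Set.image_id (↑s : Set C)]
    exact Set.image_congr fun x _ => hl x
  rw [← Algebra.toSubmodule_eq_top]
  refine eq_top_of_forall_exists_sub_mem hk _ fun b => ?_
  obtain ⟨t, ht, hgt⟩ : g b ∈ T.map g := hg ▸ Algebra.mem_top
  exact ⟨t, ht, hker (by rw [RingHom.mem_ker, map_sub]; exact sub_eq_zero.mpr hgt.symm)⟩

/-- Surjectivity can be tested modulo a nilpotent ideal of the base. -/
lemma surjective_of_comp_surjective {φ : A →+* B} {ψ : B →+* C}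
    {I : Ideal A} {k : ℕ} (hk : I ^ k = ⊥) (hker : RingHom.ker ψ ≤ I.map φ)
    (h : Function.Surjective (ψ.comp φ)) : Function.Surjective φ := by
  let := φ.toAlgebra
  have := eq_top_of_forall_exists_sub_mem (B := B) hk (LinearMap.range (Algebra.linearMap A B))
    fun b => by
      obtain ⟨a, ha⟩ := h (ψ b)
      exact ⟨φ a, ⟨a, rfl⟩, hker (by rw [RingHom.mem_ker, map_sub]; exact sub_eq_zero.mpr ha.symm)⟩
  exact LinearMap.range_eq_top.mp this

lemma isAdicComplete_of_pow_eq_bot {I : Ideal A} {k : ℕ} (hk : I ^ k = ⊥) :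
    IsAdicComplete I A where
  haus' x hx := by simpa [hk] using hx k
  prec' f hf := ⟨f k, fun n => by
    rcases le_total n k with h | h
    · exact hf h
    · have hkn := hf h
      rw [hk, Submodule.bot_smul, SModEq.bot] at hkn
      rw [hkn]⟩

/-- A ring is Noetherian if a quotient by a finitely generated square zero ideal is. -/
lemma isNoetherianRing_of_sq_eq_bot {A : Type u} [CommRing A] {B : Type*} [CommRing B]
    {φ : A →+* B} (hφ : Function.Surjective φ)
    [IsNoetherianRing B] (hfg : (RingHom.ker φ).FG) (hsq : RingHom.ker φ ^ 2 = ⊥) :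
    IsNoetherianRing A := by
  have : IsNoetherianRing (A ⧸ RingHom.ker φ) :=
    isNoetherianRing_of_ringEquiv B (RingHom.quotientKerEquivOfSurjective hφ).symm
  have := isAdicComplete_of_pow_eq_bot hsq
  exact GrothLib.AdicLim.isNoetherianRing_of_complete hfg

/-- In a ring with `J^(n+2) = 0`, `n ≥ 1`, if `J = G + K` with `K = J^(n+1)` then `K = G^(n+1)`. -/
lemma pow_eq_pow_of_sup {J G : Ideal A} {n : ℕ} (hn : 1 ≤ n) (hG : J ≤ G ⊔ J ^ (n + 1)) (hGJ : G ≤ J)
    (hJ : J ^ (n + 2) = ⊥) : J ^ (n + 1) = G ^ (n + 1) := by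
  have h2 : J ≤ G ⊔ J ^ 2 := hG.trans (sup_le_sup_left (Ideal.pow_le_pow_right (by omega)) _)
  have key : ∀ k, J ^ k ≤ G ^ k ⊔ J ^ (k + 1) := by
    intro k
    induction k with
    | zero => simp
    | succ k ih =>
      calc J ^ (k + 1) = J ^ k * J := pow_succ J k
        _ ≤ (G ^ k ⊔ J ^ (k + 1)) * (G ⊔ J ^ 2) := Ideal.mul_mono ih h2
        _ ≤ G ^ (k + 1) ⊔ J ^ (k + 2) := by
          rw [Ideal.sup_mul, Ideal.mul_sup, Ideal.mul_sup, ← pow_succ, ← pow_add]
          refine sup_le (sup_le le_sup_left ?_) (sup_le ?_ ?_)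
          · refine le_trans ?_ le_sup_right
            rw [pow_add J k 2]
            exact Ideal.mul_mono_left (Ideal.pow_right_mono hGJ k)
          · refine le_trans ?_ le_sup_right
            rw [pow_succ J (k + 1)]
            exact Ideal.mul_mono_right hGJ
          · exact le_trans (Ideal.pow_le_pow_right (by omega)) le_sup_right
  refine le_antisymm ?_ (Ideal.pow_right_mono hGJ _)
  simpa [hJ] using key (n + 1)

end GrothLib.FSchSys
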