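import Groth.Agent.Lib.FSchSys.Ker
import Groth.Agent.Lib.FSchSys.Ring
import Mathlib.AlgebraicGeometry.Noetherian
import Mathlib.AlgebraicGeometry.ZariskisMainTheorem

/-!
# Properties of morphisms detected on thickenings
-/

universe u

open CategoryTheory CategoryTheory.Limits AlgebraicGeometry Scheme

namespace GrothLib.FSchSys

variable {X Y X₀ Y₀ : Scheme.{u}}

lemma isNilpotent_ker_ideal [IsLocallyNoetherian Y] (i : Y₀ ⟶ Y) [IsClosedImmersion i]
    [Surjective i] (U : Y.affineOpens) : ∃ k, i.ker.ideal U ^ k = ⊥ := by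
  have := IsLocallyNoetherian.component_noetherian U
  have hs : (i.ker.support : Set Y) = Set.univ := by
    rw [Scheme.Hom.support_ker, Set.range_eq_univ.mpr i.surjective, closure_univ]
  have h1 : Y.zeroLocus (U := U.1) (i.ker.ideal U : Set Γ(Y, U.1)) = Set.univ := by
    rw [← Set.univ_subset_iff]
    intro y _
    by_cases hy : y ∈ U.1
    · exact ((IdealSheafData.coe_support_inter _ U).le ⟨hs.ge trivial, hy⟩).1
    · rw [Scheme.mem_zeroLocus_iff]
      exact fun s _ hm => hy (Y.basicOpen_le s hm)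
  rw [Scheme.zeroLocus_eq_univ_iff_subset_nilradical_of_isCompact U.2.isCompact] at h1
  obtain ⟨k, hk⟩ := IsNoetherianRing.isNilpotent_nilradical Γ(Y, U.1)
  exact ⟨k, le_bot_iff.mp ((Ideal.pow_right_mono h1 k).trans hk.le)⟩

lemma isLocallyNoetherian_of_sq_eq_bot (i : X₀ ⟶ X) [IsClosedImmersion i]
    [IsLocallyNoetherian X₀] (hsq : i.ker ^ 2 = ⊥)
    (hfg : ∀ x : X, ∃ U : X.affineOpens, x ∈ U.1 ∧ (i.ker.ideal U).FG) :
    IsLocallyNoetherian X := by
  choose U hxU hU using hfg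
  refine isLocallyNoetherian_of_affine_cover (S := U) ?_ fun x => ?_
  · exact eq_top_iff.mpr fun x _ => TopologicalSpace.Opens.mem_iSup.mpr ⟨x, hxU x⟩
  · have := IsLocallyNoetherian.component_noetherian ⟨i ⁻¹ᵁ (U x).1, (U x).2.preimage i⟩
    have hk := i.ker_apply (U x)
    refine isNoetherianRing_of_sq_eq_bot (φ := (i.app (U x).1).hom)
      (i.app_surjective _ (U x).2) ?_ ?_
    · exact hk ▸ hU x
    · have := congr($(congrArg IdealSheafData.ideal hsq) (U x))
      simpa [hk] using this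

/-- Morphisms locally of finite type descend along thickenings with nilpotent ideal. -/
lemma locallyOfFiniteType_of_isPullback {f : X ⟶ Y} {f₀ : X₀ ⟶ Y₀} {iX : X₀ ⟶ X} {iY : Y₀ ⟶ Y}
    [IsClosedImmersion iY] (h : IsPullback iX f₀ f iY)
    (hnil : ∀ U : Y.affineOpens, ∃ k, iY.ker.ideal U ^ k = ⊥) [LocallyOfFiniteType f₀] :
    LocallyOfFiniteType f := by
  have : IsClosedImmersion iX := MorphismProperty.of_isPullback h.flip ‹_›
  constructor
  intro U hU V hV e
  obtain ⟨k, hk⟩ := hnil ⟨U, hU⟩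
  have hker : RingHom.ker (iX.app V).hom ≤ (iY.ker.ideal ⟨U, hU⟩).map (f.appLE U V e).hom := by
    rw [← iX.ker_apply ⟨V, hV⟩, ker_eq_comap_of_isPullback h,
      BlowUp.ideal_comap_eq_map _ f ⟨U, hU⟩ ⟨V, hV⟩ e]
  refine finiteType_of_comp_surjective (iX.app_surjective V hV) hk hker ?_
  have e₀ : iX ⁻¹ᵁ V ≤ f₀ ⁻¹ᵁ (iY ⁻¹ᵁ U) := by
    intro x hx
    show iY (f₀ x) ∈ U
    rw [← Scheme.Hom.comp_apply, ← h.w, Scheme.Hom.comp_apply]
    exact e hx
  have hsq : f.appLE U V e ≫ iX.app V = iY.app U ≫ f₀.appLE (iY ⁻¹ᵁ U) (iX ⁻¹ᵁ V) e₀ := by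
    rw [Scheme.Hom.app_eq_appLE, Scheme.Hom.app_eq_appLE, Scheme.Hom.appLE_comp_appLE,
      Scheme.Hom.appLE_comp_appLE]
    simp only [h.w]
  rw [← CommRingCat.hom_comp, hsq, CommRingCat.hom_comp]
  exact (f₀.finiteType_appLE (hU.preimage iY) (hV.preimage iX) e₀).comp
    (RingHom.FiniteType.of_surjective _ (iY.app_surjective U hU))

/-- Separatedness is detected on thickenings. -/
lemma isSeparated_iff_of_thickening {f : X ⟶ Y} {f₀ : X₀ ⟶ Y₀} {iX : X₀ ⟶ X} {iY : Y₀ ⟶ Y}
    [IsClosedImmersion iX] [Surjective iX] [IsClosedImmersion iY] (h : f₀ ≫ iY = iX ≫ f) :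
    IsSeparated f ↔ IsSeparated f₀ := by
  constructor
  · intro _
    have : IsSeparated (f₀ ≫ iY) := by rw [h]; infer_instance
    exact IsSeparated.of_comp f₀ iY
  · intro _
    have : IsSeparated (iX ≫ f) := by rw [← h]; infer_instance
    let m : pullback (iX ≫ f) (iX ≫ f) ⟶ pullback f f :=
      pullback.map _ _ _ _ iX iX (𝟙 _) (by simp) (by simp)
    have : IsClosedImmersion m :=
      MorphismProperty.pullbackMap (P := @IsClosedImmersion) ‹_› ‹_› (by simp) (by simp)
    have e : iX ≫ pullback.diagonal f = pullback.diagonal (iX ≫ f) ≫ m := by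
      apply pullback.hom_ext
      · simp [m, pullback.map]
        erw [pullback.lift_fst, pullback.diagonal_fst_assoc]
      · simp [m, pullback.map]
        erw [pullback.lift_snd, pullback.diagonal_snd_assoc]
    refine ⟨IsClosedImmersion.of_isPreimmersion _ ?_⟩
    have hr : Set.range (pullback.diagonal f) =
        Set.range (pullback.diagonal (iX ≫ f) ≫ m : X₀ ⟶ pullback f f) := by
      rw [← e, Scheme.Hom.comp_base, TopCat.coe_comp, Set.range_comp,
        Set.range_eq_univ.mpr iX.surjective, Set.image_univ]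
    rw [hr]
    exact (pullback.diagonal (iX ≫ f) ≫ m).isClosedEmbedding.isClosed_range

lemma universallyClosed_of_thickening {f : X ⟶ Y} {f₀ : X₀ ⟶ Y₀} {iX : X₀ ⟶ X} {iY : Y₀ ⟶ Y}
    [Surjective iX] [IsClosedImmersion iY] [UniversallyClosed f₀] (h : f₀ ≫ iY = iX ≫ f) :
    UniversallyClosed f := by
  have : UniversallyClosed (iX ≫ f) := by rw [← h]; infer_instance
  exact UniversallyClosed.of_comp_surjective iX f

lemma isProper_of_isPullback {f : X ⟶ Y} {f₀ : X₀ ⟶ Y₀} {iX : X₀ ⟶ X} {iY : Y₀ ⟶ Y}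
    [IsClosedImmersion iY] [Surjective iY] (h : IsPullback iX f₀ f iY)
    (hnil : ∀ U : Y.affineOpens, ∃ k, iY.ker.ideal U ^ k = ⊥) [IsProper f₀] :
    IsProper f := by
  have : IsClosedImmersion iX := MorphismProperty.of_isPullback h.flip ‹_›
  have : Surjective iX := MorphismProperty.of_isPullback h.flip ‹_›
  have := universallyClosed_of_thickening h.w.symm
  have : IsSeparated f := (isSeparated_iff_of_thickening h.w.symm).mpr inferInstance
  have := locallyOfFiniteType_of_isPullback h hnil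
  exact ⟨⟩

lemma isFinite_of_isPullback {f : X ⟶ Y} {f₀ : X₀ ⟶ Y₀} {iX : X₀ ⟶ X} {iY : Y₀ ⟶ Y}
    [IsClosedImmersion iY] [Surjective iY] (h : IsPullback iX f₀ f iY)
    (hnil : ∀ U : Y.affineOpens, ∃ k, iY.ker.ideal U ^ k = ⊥) [IsFinite f₀] :
    IsFinite f := by
  have : IsClosedImmersion iX := MorphismProperty.of_isPullback h.flip ‹_›
  have : Surjective iX := MorphismProperty.of_isPullback h.flip ‹_›
  have := isProper_of_isPullback h hnil
  have : LocallyQuasiFinite f := by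
    refine LocallyQuasiFinite.of_finite_preimage_singleton _ fun y => ?_
    obtain ⟨y₀, rfl⟩ := iY.surjective y
    refine ((f₀.finite_preimage_singleton y₀).image iX).subset fun x hx => ?_
    obtain ⟨x₀, rfl⟩ := iX.surjective x
    refine ⟨x₀, iY.isClosedEmbedding.injective ?_, rfl⟩
    rw [← Scheme.Hom.comp_apply, ← h.w, Scheme.Hom.comp_apply]
    exact hx
  exact IsFinite.of_isProper_of_locallyQuasiFinite f

lemma isClosedImmersion_of_isPullback {f : X ⟶ Y} {f₀ : X₀ ⟶ Y₀} {iX : X₀ ⟶ X} {iY : Y₀ ⟶ Y}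
    [IsClosedImmersion iY] [Surjective iY] (h : IsPullback iX f₀ f iY)
    (hnil : ∀ U : Y.affineOpens, ∃ k, iY.ker.ideal U ^ k = ⊥) [IsClosedImmersion f₀] :
    IsClosedImmersion f := by
  have : IsClosedImmersion iX := MorphismProperty.of_isPullback h.flip ‹_›
  have := isFinite_of_isPullback h hnil
  refine isClosedImmersion_iff_isAffineHom.mpr ⟨inferInstance, fun U hU => ?_⟩
  obtain ⟨k, hk⟩ := hnil ⟨U, hU⟩
  have hV : IsAffineOpen (f ⁻¹ᵁ U) := hU.preimage f
  refine surjective_of_comp_surjective (ψ := (iX.app (f ⁻¹ᵁ U)).hom) hk ?_ ?_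
  · rw [← iX.ker_apply ⟨_, hV⟩, ker_eq_comap_of_isPullback h,
      BlowUp.ideal_comap_eq_map _ f ⟨U, hU⟩ ⟨_, hV⟩ le_rfl, Scheme.Hom.app_eq_appLE]
  · have : IsClosedImmersion (iX ≫ f) := by rw [h.w]; infer_instance
    have hs := (iX ≫ f).app_surjective U hU
    rw [Scheme.Hom.comp_app] at hs
    exact hs

end GrothLib.FSchSys
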