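import Groth.Agent.Lib.FSchSys.Ker

/-!
# Kernels of morphisms of spectra
-/

universe u

open CategoryTheory CategoryTheory.Limits AlgebraicGeometry Scheme

namespace GrothLib.FSchSys

variable {R S T : CommRingCat.{u}}

lemma ideal_ker_SpecMap (ψ : R ⟶ S) :
    (Spec.map ψ).ker.ideal ⟨⊤, isAffineOpen_top _⟩ =
      (RingHom.ker ψ.hom).map (Scheme.ΓSpecIso R).inv.hom := by
  rw [ker_of_isAffine]
  simp only [IdealSheafData.ofIdealTop_ideal, homOfLE_refl, op_id, CategoryTheory.Functor.map_id,
    CommRingCat.hom_id, Ideal.map_id]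
  have h := Scheme.ΓSpecIso_inv_naturality ψ
  have hb := ConcreteCategory.bijective_of_isIso (Scheme.ΓSpecIso R).inv
  have hb' := ConcreteCategory.bijective_of_isIso (Scheme.ΓSpecIso S).inv
  apply Ideal.comap_injective_of_surjective _ hb.2
  rw [Ideal.comap_map_of_bijective _ hb, RingHom.comap_ker]
  ext a
  have ha := congr($h a)
  simp only [CategoryTheory.comp_apply] at ha
  rw [RingHom.mem_ker, RingHom.comp_apply]
  erw [← ha]
  exact map_eq_zero_iff _ hb'.1

lemma ideal_comap_SpecMap (φ : R ⟶ S) (I : (Spec R).IdealSheafData) (J : Ideal R)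
    (hI : I.ideal ⟨⊤, isAffineOpen_top _⟩ = J.map (Scheme.ΓSpecIso R).inv.hom) :
    (I.comap (Spec.map φ)).ideal ⟨⊤, isAffineOpen_top _⟩ =
      (J.map φ.hom).map (Scheme.ΓSpecIso S).inv.hom := by
  rw [BlowUp.ideal_comap_eq_map_of_isAffine, hI, Ideal.map_map, Ideal.map_map,
    ← CommRingCat.hom_comp, ← CommRingCat.hom_comp, Scheme.ΓSpecIso_inv_naturality]

/-- A square of spectra with closed immersions is cartesian iff the kernels correspond. -/
lemma isPullback_spec_iff {R' S' : CommRingCat.{u}} (φ : R ⟶ S) (φ' : R' ⟶ S') (p : R ⟶ R')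
    (q : S ⟶ S') (hp : Function.Surjective p.hom) (hq : Function.Surjective q.hom)
    (w : φ ≫ q = p ≫ φ') :
    IsPullback (Spec.map q) (Spec.map φ') (Spec.map φ) (Spec.map p) ↔
      (RingHom.ker p.hom).map φ.hom = RingHom.ker q.hom := by
  have : IsClosedImmersion (Spec.map p) := IsClosedImmersion.spec_of_surjective _ hp
  have : IsClosedImmersion (Spec.map q) := IsClosedImmersion.spec_of_surjective _ hq
  have key : (Spec.map p).ker.comap (Spec.map φ) = (Spec.map q).ker ↔
      (RingHom.ker p.hom).map φ.hom = RingHom.ker q.hom := by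
    have hc := ideal_comap_SpecMap φ _ _ (ideal_ker_SpecMap p)
    have hb := ConcreteCategory.bijective_of_isIso (Scheme.ΓSpecIso S).inv
    constructor
    · intro h
      rw [h, ideal_ker_SpecMap] at hc
      have := congrArg (Ideal.comap (Scheme.ΓSpecIso S).inv.hom) hc
      rwa [Ideal.comap_map_of_bijective _ hb, Ideal.comap_map_of_bijective _ hb, eq_comm] at this
    · intro h
      exact IdealSheafData.ext_of_isAffine (by rw [hc, h, ideal_ker_SpecMap])
  rw [← key]
  constructor
  · exact fun h => (ker_eq_comap_of_isPullback h).symm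
  · intro h
    exact AlgebraicGeometry.isPullback_of_isClosedImmersion _ _ _ _
      (by rw [← Spec.map_comp, ← Spec.map_comp, w]) h

end GrothLib.FSchSys
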