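import Groth.Agent.Lib.FSchSys.ComplMap
import Groth.Agent.Lib.AdicExtra.Units
import Groth.Agent.Lib.AdicExtra.Completion
import Groth.Agent.Lib.Flatness.Criterion
import Mathlib.RingTheory.RingHom.Flat

/-!
# Flatness of maps between completions
-/

universe u

open scoped TensorProduct

namespace GrothLib.FSchSys

section quot

variable {R S : Type u} [CommRing R] [CommRing S] [Algebra R S] (I : Ideal R)


/-- `(R/I) ⊗ S ≅ S/IS` over `R/I`. -/
noncomputable def quotTensorEquiv :
    letI := Ideal.Quotient.algebraQuotientOfLEComap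
      (Ideal.le_comap_map : I ≤ (I.map (algebraMap R S)).comap (algebraMap R S))
    ((R ⧸ I) ⊗[R] S) ≃ₗ[R ⧸ I] S ⧸ I.map (algebraMap R S) :=
  letI := Ideal.Quotient.algebraQuotientOfLEComap
    (Ideal.le_comap_map : I ≤ (I.map (algebraMap R S)).comap (algebraMap R S))
  haveI : IsScalarTower R (R ⧸ I) (S ⧸ I.map (algebraMap R S)) :=
    IsScalarTower.of_algebraMap_eq fun _ => rfl
  LinearEquiv.extendScalarsOfSurjective Ideal.Quotient.mk_surjective
    (TensorProduct.quotTensorEquivQuotSMul S I ≪≫ₗ
      Submodule.quotEquivOfEq _ ((I.map (algebraMap R S)).restrictScalars R)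
        (Ideal.smul_top_eq_map I) ≪≫ₗ
      Submodule.Quotient.restrictScalarsEquiv R (I.map (algebraMap R S)))

lemma flat_quot_iff :
    (Ideal.quotientMap (I.map (algebraMap R S)) (algebraMap R S) Ideal.le_comap_map).Flat ↔
      Module.Flat (R ⧸ I) ((R ⧸ I) ⊗[R] S) := by
  let := Ideal.Quotient.algebraQuotientOfLEComap
    (Ideal.le_comap_map : I ≤ (I.map (algebraMap R S)).comap (algebraMap R S))
  have h1 : (Ideal.quotientMap (I.map (algebraMap R S)) (algebraMap R S) Ideal.le_comap_map).Flat ↔
      Module.Flat (R ⧸ I) (S ⧸ I.map (algebraMap R S)) := RingHom.flat_algebraMap_iff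
  rw [h1]
  exact ⟨fun _ => Module.Flat.of_linearEquiv (quotTensorEquiv I),
    fun _ => Module.Flat.of_linearEquiv (quotTensorEquiv I).symm⟩

/-- Flatness is detected modulo the powers of an ideal in the radical. -/
lemma flat_of_forall_quot [IsNoetherianRing R] [IsNoetherianRing S]
    (hI : I.map (algebraMap R S) ≤ Ideal.jacobson ⊥)
    (h : ∀ n : ℕ, (Ideal.quotientMap ((I ^ n).map (algebraMap R S)) (algebraMap R S)
      Ideal.le_comap_map).Flat) : Module.Flat R S :=
  Flatness.flat_of_forall_pow (S := S) I hI fun n _ _ _ _ _ _ f hA hB hf =>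
    Flatness.lTensor_injective_of_flat_quotient (I ^ n) ((flat_quot_iff (I ^ n)).mp (h n)) hA hB f hf

end quot

variable {S : Type u} [CommRing S] (K : Ideal S)

/-- The quotient of a completion by a power of the extended ideal. -/
lemma ker_evalₐ (hK : K.FG) (n : ℕ) :
    RingHom.ker (AdicCompletion.evalₐ K n).toRingHom =
      (K ^ n).map (algebraMap S (AdicCompletion K S)) := by
  ext x
  have h1 : x ∈ (K ^ n).map (algebraMap S (AdicCompletion K S)) ↔
      x ∈ LinearMap.ker (AdicCompletion.eval K S n) := by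
    rw [← AdicCompletion.pow_smul_top_eq_ker_eval hK, Ideal.smul_top_eq_map]
    rfl
  rw [h1, LinearMap.mem_ker, RingHom.mem_ker]
  change AdicCompletion.evalₐ K n x = 0 ↔ _
  rw [← AdicCompletion.factor_eval_eq_evalₐ (I := K) x (Ideal.mul_top _).le]
  refine (map_eq_zero_iff _ fun p q hpq => ?_)
  obtain ⟨p, rfl⟩ := Submodule.Quotient.mk_surjective _ p
  obtain ⟨q, rfl⟩ := Submodule.Quotient.mk_surjective _ q
  refine (Submodule.Quotient.eq _).mpr ?_
  rw [Ideal.smul_eq_mul, Ideal.mul_top]
  exact (Submodule.Quotient.eq _).mp hpq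

/-- `Ŝ / Kⁿ Ŝ ≅ S / Kⁿ`. -/
noncomputable def quotPowEquiv (hK : K.FG) (n : ℕ) :
    AdicCompletion K S ⧸ (K ^ n).map (algebraMap S (AdicCompletion K S)) ≃+* S ⧸ K ^ n :=
  (Ideal.quotEquivOfEq (ker_evalₐ K hK n).symm).trans
    (RingHom.quotientKerEquivOfSurjective (f := (AdicCompletion.evalₐ K n).toRingHom)
      (AdicCompletion.surjective_evalₐ K n))

lemma quotPowEquiv_mk (hK : K.FG) (n : ℕ) (x : AdicCompletion K S) :
    quotPowEquiv K hK n (Ideal.Quotient.mk _ x) = AdicCompletion.evalₐ K n x := rfl

variable {T : Type u} [CommRing T]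

/-- A flat ring map induces a flat map of completions (Noetherian rings). -/
lemma flat_complMap [IsNoetherianRing S] [IsNoetherianRing T] (g : S →+* T) (hg : g.Flat)
    (L : Ideal T) (hL : K.map g = L) : (FSch.complMap K L g hL.le).Flat := by
  subst hL
  set ψ := FSch.complMap K (K.map g) g le_rfl with hψ
  let B := AdicCompletion K S
  let C := AdicCompletion (K.map g) T
  let := ψ.toAlgebra
  have hK := IsNoetherian.noetherian (R := S) K
  have hLfg := IsNoetherian.noetherian (R := T) (K.map g)
  have hmap : ∀ n, (((K ^ n).map (algebraMap S B)).map (algebraMap B C)) =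
      ((K.map g) ^ n).map (algebraMap T C) := fun n => by
    rw [Ideal.map_map, ← Ideal.map_pow, Ideal.map_map,
      show (algebraMap B C).comp (algebraMap S B) = (algebraMap T C).comp g from
        RingHom.ext fun s => complMap_algebraMap K (K.map g) g le_rfl s]
  refine flat_of_forall_quot (K.map (algebraMap S B)) ?_ fun n => ?_
  · have h1 := hmap 1
    rw [pow_one, pow_one] at h1
    rw [h1]
    exact AdicExtra.map_le_ker_evalOne.trans AdicExtra.ker_evalOne_le_jacobson
  · set q := Ideal.quotientMap (((K.map (algebraMap S B)) ^ n).map (algebraMap B C))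
      (algebraMap B C) Ideal.le_comap_map
    have hpow : (K.map (algebraMap S B)) ^ n = (K ^ n).map (algebraMap S B) := (Ideal.map_pow _ _ _).symm
    let e₁ := (Ideal.quotEquivOfEq hpow).trans (quotPowEquiv K hK n)
    let e₂ := (Ideal.quotEquivOfEq ((congrArg (Ideal.map (algebraMap B C)) hpow).trans (hmap n))).trans
      (quotPowEquiv (K.map g) hLfg n)
    let gn : S ⧸ K ^ n →+* T ⧸ (K.map g) ^ n :=
      Ideal.quotientMap ((K.map g) ^ n) g (FSch.pow_le_comap_pow_of_map_le K (K.map g) g le_rfl n)
    have hgn : gn.Flat := by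
      let := g.toAlgebra
      have h2 := (flat_quot_iff (S := T) (K ^ n)).mpr
        (haveI : Module.Flat S T := hg; inferInstance)
      have e : (K ^ n).map (algebraMap S T) = (K.map g) ^ n := by
        rw [Ideal.map_pow]; rfl
      have : gn = (Ideal.quotEquivOfEq e).toRingHom.comp (Ideal.quotientMap _ (algebraMap S T)
          (Ideal.le_comap_map)) := Ideal.Quotient.ringHom_ext (RingHom.ext fun s => rfl)
      rw [this]
      exact RingHom.Flat.comp h2 (RingHom.Flat.of_bijective (Ideal.quotEquivOfEq e).bijective)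
    have hsq : q = e₂.symm.toRingHom.comp (gn.comp e₁.toRingHom) := by
      refine Ideal.Quotient.ringHom_ext (RingHom.ext fun x => ?_)
      apply e₂.injective
      simp only [RingHom.coe_comp, Function.comp_apply, RingEquiv.toRingHom_eq_coe,
        RingEquiv.coe_toRingHom, RingEquiv.apply_symm_apply]
      exact evalₐ_complMap K (K.map g) g le_rfl n x
    rw [hsq]
    exact RingHom.Flat.comp (RingHom.Flat.comp (RingHom.Flat.of_bijective e₁.bijective) hgn)
      (RingHom.Flat.of_bijective e₂.symm.bijective)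

end GrothLib.FSchSys
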