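import Groth.Agent.Lib.FSchSys.Completion
import Groth.Agent.Lib.FSchSys.Descent

/-!
# Levels of adic systems of thickenings
-/

universe u

open CategoryTheory CategoryTheory.Limits AlgebraicGeometry Scheme

namespace GrothLib.FSchSys

variable {𝔛 𝔖 𝔜 : FSch.Sys.{u}}

lemma exists_ker_toX_ideal_pow (h : 𝔛.IsFormal) (ha : 𝔛.IsAdic) (n : ℕ)
    (U : (𝔛.X n).affineOpens) : ∃ k, (𝔛.toX n).ker.ideal U ^ k = ⊥ :=
  ⟨n + 1, by simpa using congr($(congrArg IdealSheafData.ideal (ker_toX_pow_eq_bot h ha n)) U)⟩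

/-- Every level of an adic system is locally Noetherian when the smallest is and the conormal
ideal is of finite type. -/
lemma isLocallyNoetherian_of_adic (h : 𝔛.IsFormal) (ha : 𝔛.IsAdic) [IsLocallyNoetherian (𝔛.X 0)]
    (hft : ∀ x : 𝔛.X 1, ∃ U : (𝔛.X 1).affineOpens, x ∈ U.1 ∧ ((𝔛.ι 0).ker.ideal U).FG) :
    ∀ n, IsLocallyNoetherian (𝔛.X n)
  | 0 => inferInstance
  | n + 1 => by
    have hn := isLocallyNoetherian_of_adic h ha hft n
    have := (h n).1
    have hJ := ker_toX_pow_eq_bot h ha (n + 1)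
    refine isLocallyNoetherian_of_sq_eq_bot (𝔛.ι n) ?_ fun x => ?_
    · refine le_bot_iff.mp ?_
      rw [ha n, ← hJ, ← pow_mul]
      exact pow_le_pow_of_le_one bot_le le_top (by omega)
    rcases Nat.eq_zero_or_pos n with rfl | hpos
    · exact hft x
    obtain ⟨_, ⟨U', hU', rfl⟩, hxU, -⟩ := (𝔛.X (n + 1)).isBasis_affineOpens.exists_subset_of_mem_open
      (Set.mem_univ x) isOpen_univ
    let U : (𝔛.X (n + 1)).affineOpens := ⟨U', hU'⟩
    refine ⟨U, hxU, ?_⟩
    rw [ha n, IdealSheafData.ideal_pow, Pi.pow_apply]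
    set J := (𝔛.toX (n + 1)).ker.ideal U
    have hJb : J ^ (n + 2) = ⊥ := by
      simpa [J] using congr($(congrArg IdealSheafData.ideal hJ) U)
    have hK : RingHom.ker ((𝔛.ι n).app U.1).hom = J ^ (n + 1) := by
      rw [← (𝔛.ι n).ker_apply U, ha n]; rfl
    have := IsLocallyNoetherian.component_noetherian ⟨(𝔛.ι n) ⁻¹ᵁ U.1, U.2.preimage (𝔛.ι n)⟩
    have hsurj := (𝔛.ι n).app_surjective U.1 U.2
    obtain ⟨s, hs⟩ := (isNoetherianRing_iff_ideal_fg _).mp this (J.map ((𝔛.ι n).app U.1).hom)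
    have hmem : ∀ y ∈ s, ∃ x ∈ J, ((𝔛.ι n).app U.1).hom x = y := fun y hy =>
      (Ideal.mem_map_iff_of_surjective _ hsurj).mp (hs ▸ Ideal.subset_span hy)
    choose l hlJ hl using hmem
    classical
    let G : Ideal Γ(𝔛.X (n + 1), U.1) :=
      Ideal.span ↑(s.attach.image fun y => l y.1 y.2)
    have hGJ : G ≤ J := Ideal.span_le.mpr fun x hx => by
      simp only [Finset.coe_image, Set.mem_image] at hx
      obtain ⟨y, -, rfl⟩ := hx
      exact hlJ _ _
    have hle : J ≤ G ⊔ J ^ (n + 1) := by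
      rw [← hK, RingHom.ker_eq_comap_bot, ← Ideal.comap_map_of_surjective _ hsurj G,
        ← Ideal.map_le_iff_le_comap, ← hs, Ideal.span_le]
      intro y hy
      rw [← hl y hy]
      exact Ideal.mem_map_of_mem _ (Ideal.subset_span (by
        simp only [Finset.coe_image, Set.mem_image]
        exact ⟨⟨y, hy⟩, by simp, rfl⟩))
    rw [pow_eq_pow_of_sup hpos hle hGJ hJb]
    exact Submodule.FG.pow ⟨_, rfl⟩ _

/-- A system adic over a locally Noetherian formal one is again such. -/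
lemma isLocNoethFormal_of_isAdicHom (f : 𝔛 ⟶ 𝔖) (h : 𝔖.IsLocNoethFormal)
    (hf : FSch.IsAdicHom f) [IsLocallyNoetherian (𝔛.X 0)] : 𝔛.IsLocNoethFormal := by
  have hF := isFormal_of_isAdicHom f hf h.1
  have hA := isAdic_of_isAdicHom f hf h.1 h.2.1
  have := (h.1 0).1
  refine ⟨hF, hA, isLocallyNoetherian_of_adic hF hA fun x => ?_⟩
  obtain ⟨U, V, hxV, hVU⟩ := exists_affine_pair ((f : FSch.Hom 𝔛 𝔖).app 1) x
  refine ⟨V, hxV, ?_⟩
  rw [ker_eq_comap_of_isPullback (hf 0), BlowUp.ideal_comap_eq_map _ _ U V hVU]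
  have := IsLocallyNoetherian.component_noetherian (self := h.2.2 1) U
  exact Ideal.FG.map (IsNoetherian.noetherian ((𝔖.ι 0).ker.ideal U)) _

lemma idealFT_of_isLocallyNoetherian {X : Scheme.{u}} [IsLocallyNoetherian X]
    (I : X.IdealSheafData) : FSch.IdealFT I := fun U => by
  have := IsLocallyNoetherian.component_noetherian U
  exact IsNoetherian.noetherian _

end GrothLib.FSchSys
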