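import Groth.Prelude.Def_FSch5
import Groth.Agent.Lib.FSchSys.Levels

/-!
# The system induced on an open of the common space
-/

universe u

open CategoryTheory CategoryTheory.Limits AlgebraicGeometry Scheme

namespace GrothLib.FSchSys

lemma isPullback_resLE_of_eq {X Y : Scheme.{u}} (f : X ⟶ Y) (U : Y.Opens) (V : X.Opens)
    (e : V ≤ f ⁻¹ᵁ U) (heq : V = f ⁻¹ᵁ U) : IsPullback (f.resLE U V e) V.ι U.ι f := by
  subst heq
  rw [Scheme.Hom.resLE_eq_morphismRestrict]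
  exact isPullback_morphismRestrict f U

variable {𝔛 𝔜 : FSch.Sys.{u}}

lemma isAdicHom_restrictOpenι (h : 𝔛.IsFormal) (U : (𝔛.X 0).Opens) :
    FSch.IsAdicHom (𝔛.restrictOpenι h U) := fun n =>
  isPullback_resLE_of_eq (𝔛.ι n) _ _ (𝔛.lvU_le h n U) (𝔛.lvU_succ h n U).symm

lemma isFormal_restrictOpen (h : 𝔛.IsFormal) (U : (𝔛.X 0).Opens) :
    (𝔛.restrictOpen h U).IsFormal :=
  isFormal_of_isAdicHom _ (isAdicHom_restrictOpenι h U) h

lemma isLocNoethFormal_restrictOpen (h : 𝔛.IsFormal) (hN : 𝔛.IsLocNoethFormal)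
    (U : (𝔛.X 0).Opens) : (𝔛.restrictOpen h U).IsLocNoethFormal := by
  have := hN.2.2 0
  have : IsLocallyNoetherian (𝔛.lvU h 0 U).toScheme :=
    isLocallyNoetherian_of_isOpenImmersion (𝔛.lvU h 0 U).ι
  have : IsLocallyNoetherian ((𝔛.restrictOpen h U).X 0) := this
  exact isLocNoethFormal_of_isAdicHom _ hN (isAdicHom_restrictOpenι h U)

lemma isAdicHom_restrictOpen (f : 𝔛 ⟶ 𝔜) (hf : FSch.IsAdicHom f) (h : 𝔛.IsFormal)
    (h' : 𝔜.IsFormal) (U : (𝔜.X 0).Opens) :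
    FSch.IsAdicHom (FSch.Hom.restrictOpen f h h' U) := fun n => by
  refine IsPullback.of_bot ?_ ((FSch.Hom.restrictOpen f h h' U : FSch.Hom _ _).comm n).symm
    (isAdicHom_restrictOpenι h' U n)
  have e := (isAdicHom_restrictOpenι h ((f : FSch.Hom 𝔛 𝔜).app 0 ⁻¹ᵁ U) n).paste_vert (hf n)
  have w : ∀ k, (FSch.Hom.restrictOpen f h h' U : FSch.Hom _ _).app k ≫
      (𝔜.restrictOpenι h' U : FSch.Hom _ _).app k =
      (𝔛.restrictOpenι h ((f : FSch.Hom 𝔛 𝔜).app 0 ⁻¹ᵁ U) : FSch.Hom _ _).app k ≫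
        (f : FSch.Hom 𝔛 𝔜).app k :=
    fun k => Scheme.Hom.resLE_comp_ι _ _
  rw [w n, w (n + 1)]
  exact e

end GrothLib.FSchSys
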