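import Groth.Prelude.Def_FSch3

/-!
# Functoriality of completions of rings
-/

universe u

namespace GrothLib.FSchSys

variable {S T : Type u} [CommRing S] [CommRing T] (I : Ideal S) (K : Ideal T) (g : S →+* T)

lemma evalₐ_complMap (h : I.map g ≤ K) (n : ℕ) (x : AdicCompletion I S) :
    AdicCompletion.evalₐ K n (FSch.complMap I K g h x) =
      Ideal.quotientMap (K ^ n) g (FSch.pow_le_comap_pow_of_map_le I K g h n)
        (AdicCompletion.evalₐ I n x) :=
  AdicCompletion.evalₐ_liftRingHom _ _
    (fun {m n} hle => by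
      apply RingHom.ext
      intro x
      obtain ⟨y, rfl⟩ := AdicCompletion.mk_surjective I S x
      simp only [RingHom.coe_comp, Function.comp_apply, AlgHom.toRingHom_eq_coe,
        AlgHom.coe_toRingHom, AdicCompletion.evalₐ_mk, Ideal.quotientMap_mk,
        Ideal.Quotient.factorPow, Ideal.Quotient.factor_mk]
      rw [Ideal.Quotient.eq]
      have hy := y.2 hle
      rw [SModEq.sub_mem] at hy
      simp only [smul_eq_mul, Ideal.mul_top] at hy
      rw [← map_sub]
      exact FSch.pow_le_comap_pow_of_map_le I K g h m (by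
        rw [← neg_sub]; exact (I ^ m).neg_mem hy)) _ _

lemma complMap_algebraMap (h : I.map g ≤ K) (s : S) :
    FSch.complMap I K g h (algebraMap S (AdicCompletion I S) s) =
      algebraMap T (AdicCompletion K T) (g s) := by
  refine AdicCompletion.ext_evalₐ fun n => ?_
  rw [evalₐ_complMap]
  erw [AdicCompletion.evalₐ_of, AdicCompletion.evalₐ_of]

lemma complMap_comp {U : Type u} [CommRing U] (L : Ideal U) (g' : T →+* U) (h : I.map g ≤ K)
    (h' : K.map g' ≤ L) (g'' : S →+* U) (h'' : I.map g'' ≤ L) (hg : g'.comp g = g'')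
    (x : AdicCompletion I S) :
    FSch.complMap K L g' h' (FSch.complMap I K g h x) = FSch.complMap I L g'' h'' x := by
  subst hg
  refine AdicCompletion.ext_evalₐ fun n => ?_
  rw [evalₐ_complMap, evalₐ_complMap, evalₐ_complMap]
  obtain ⟨y, hy⟩ := Ideal.Quotient.mk_surjective (AdicCompletion.evalₐ I n x)
  rw [← hy]
  rfl

lemma evalOneₐ_complMap (h : I.map g ≤ K) (x : AdicCompletion I S) :
    AdicCompletion.evalOneₐ K (FSch.complMap I K g h x) =
      Ideal.quotientMap K g (Ideal.map_le_iff_le_comap.mp h) (AdicCompletion.evalOneₐ I x) := by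
  rw [← AdicCompletion.factorₐ_evalₐ_one, ← AdicCompletion.factorₐ_evalₐ_one, evalₐ_complMap]
  obtain ⟨y, hy⟩ := Ideal.Quotient.mk_surjective (AdicCompletion.evalₐ I 1 x)
  rw [← hy]
  rfl

lemma complMap_unique (h : I.map g ≤ K) (x : AdicCompletion I S) (y : AdicCompletion K T)
    (hy : ∀ n, ∃ s : S, AdicCompletion.evalₐ I n x = Ideal.Quotient.mk _ s ∧
      AdicCompletion.evalₐ K n y = Ideal.Quotient.mk _ (g s)) :
    FSch.complMap I K g h x = y := by
  refine AdicCompletion.ext_evalₐ fun n => ?_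
  obtain ⟨s, h₁, h₂⟩ := hy n
  rw [evalₐ_complMap, h₁, h₂]
  rfl

end GrothLib.FSchSys
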