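import Groth.Agent.Lib.Hensel.FiniteEtaleLift
import Groth.Agent.Lib.FSchSys.Completion
import Groth.Agent.Lib.FSchSys.SpecKer
import Mathlib.RingTheory.RingHom.LocallyStandardSmooth
import Mathlib.AlgebraicGeometry.Morphisms.Smooth

/-!
# Formal smooth liftings along a completion
-/

universe u

open CategoryTheory CategoryTheory.Limits AlgebraicGeometry Scheme TensorProduct

namespace GrothLib.FSchSys

/-- Standard smooth algebras lift along any surjection. -/
theorem exists_standardSmooth_lift {A : Type u} [CommRing A] (I : Ideal A) (C : Type u) [CommRing C]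
    [Algebra (A ⧸ I) C] [Algebra A C] [IsScalarTower A (A ⧸ I) C]
    [Algebra.IsStandardSmooth (A ⧸ I) C] :
    ∃ (T : Type u) (_ : CommRing T) (_ : Algebra A T) (f : T →ₐ[A] C),
      Algebra.IsStandardSmooth A T ∧ Function.Surjective f ∧
        RingHom.ker f = I.map (algebraMap A T) := by
  obtain ⟨ι, σ, _, _, ⟨P⟩⟩ := Algebra.IsStandardSmooth.out (R := A ⧸ I) (S := C)
  have : P.toPresentation.HasCoeffs A := ⟨fun x _ ↦ Ideal.Quotient.mk_surjective x⟩
  let P' := P.toPreSubmersivePresentation.ofHasCoeffs A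
  let M := P.toPresentation.ModelOfHasCoeffs A
  let Φ : M →ₐ[A] C := (P.toPresentation.tensorModelOfHasCoeffsEquiv A).toAlgHom.restrictScalars A
    |>.comp Algebra.TensorProduct.includeRight
  obtain ⟨hΦs, hΦk⟩ := GrothLib.Hensel.ker_eq_of_tensor_equiv I Φ
    (P.toPresentation.tensorModelOfHasCoeffsEquiv A) fun _ ↦ rfl
  let Δ : M := P'.jacobian
  have hΔ : IsUnit (Φ Δ) := by
    have : Φ Δ = P.jacobian := by
      classical
      let : Fintype σ := Fintype.ofFinite _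
      rw [show Δ = Ideal.Quotient.mk _ P'.jacobiMatrix.det from
        (Algebra.PreSubmersivePresentation.jacobian_eq_jacobiMatrix_det P').trans rfl]
      show P.toPresentation.tensorModelOfHasCoeffsEquiv A (1 ⊗ₜ Ideal.Quotient.mk _ _) = _
      erw [Algebra.Presentation.tensorModelOfHasCoeffsEquiv_tmul]
      rw [map_one, one_mul, P.jacobian_eq_jacobiMatrix_det, Algebra.Generators.algebraMap_apply,
        ← MvPolynomial.aeval_map_algebraMap (A ⧸ I)]
      congr 1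
      rw [RingHom.map_det]
      congr 1
      ext1 i j
      simp [P', ← MvPolynomial.pderiv_map, Algebra.PreSubmersivePresentation.jacobiMatrix_apply]
      congr 1
      exact P.toPresentation.map_relationOfHasCoeffs A j
    rw [this]
    exact P.jacobian_isUnit
  let S : Algebra.SubmersivePresentation A (Localization.Away Δ) _ _ :=
    { toPreSubmersivePresentation := .comp (.localizationAway (Localization.Away Δ) Δ) P'
      jacobian_isUnit := by
        have := IsLocalization.Away.algebraMap_isUnit (S := Localization.Away Δ) Δ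
        simpa [Algebra.smul_def, -isUnit_map_iff, Δ] using this }
  have hu : ∀ y : Submonoid.powers Δ, IsUnit (Φ y) := by
    rintro ⟨_, n, rfl⟩; simpa using hΔ.pow n
  let f : Localization.Away Δ →ₐ[A] C := IsLocalization.liftAlgHom hu
  have hf : ∀ x, f (algebraMap M _ x) = Φ x := fun x ↦ IsLocalization.lift_eq _ x
  refine ⟨_, inferInstance, inferInstance, f, S.isStandardSmooth, fun c ↦ ?_, ?_⟩
  · obtain ⟨x, rfl⟩ := hΦs c
    exact ⟨_, hf x⟩
  · apply le_antisymm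
    · intro z hz
      obtain ⟨⟨x, s⟩, hx⟩ := IsLocalization.surj (Submonoid.powers Δ) z
      have : x ∈ I.map (algebraMap A M) := by
        rw [← hΦk, RingHom.mem_ker, ← hf, ← hx, map_mul, RingHom.mem_ker.mp hz, zero_mul]
      have h2 := Ideal.mem_map_of_mem (algebraMap M (Localization.Away Δ)) this
      rw [Ideal.map_map, ← IsScalarTower.algebraMap_eq, ← hx] at h2
      exact (Ideal.mul_unit_mem_iff_mem _ (IsLocalization.map_units _ s)).mp h2
    · rw [Ideal.map_le_iff_le_comap]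
      intro i hi
      show f (algebraMap A _ i) = 0
      rw [f.commutes, IsScalarTower.algebraMap_apply A (A ⧸ I) C]
      simp [Ideal.Quotient.algebraMap_eq, Ideal.Quotient.eq_zero_iff_mem.mpr hi]

section Ring

variable {R A B : Type u} [CommRing R] [CommRing A] [CommRing B] [Algebra R A] [Algebra R B]

/-- A morphism to the first thickening extends compatibly to all thickenings. -/
theorem exists_compatible_lifts [Algebra.FormallySmooth R B] (K : Ideal A)
    (ψ₀ : B →ₐ[R] A ⧸ K ^ (0 + 1)) :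
    ∃ ψ : ∀ n : ℕ, B →ₐ[R] A ⧸ K ^ (n + 1), ψ 0 = ψ₀ ∧
      ∀ n, (Ideal.Quotient.factorₐ R (Ideal.pow_le_pow_right (Nat.le_succ (n + 1)))).comp (ψ (n + 1)) = ψ n := by
  have hstep : ∀ (n : ℕ) (φ : B →ₐ[R] A ⧸ K ^ (n + 1)), ∃ φ' : B →ₐ[R] A ⧸ K ^ (n + 1 + 1),
      (Ideal.Quotient.factorₐ R (Ideal.pow_le_pow_right (Nat.le_succ (n + 1)))).comp φ' = φ := by
    intro n φ
    let g : A ⧸ K ^ (n + 1 + 1) →ₐ[R] A ⧸ K ^ (n + 1) :=
      Ideal.Quotient.factorₐ R (Ideal.pow_le_pow_right (Nat.le_succ (n + 1)))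
    have hg : Function.Surjective g := Ideal.Quotient.factor_surjective (Ideal.pow_le_pow_right (Nat.le_succ (n + 1)))
    have hnil : IsNilpotent (RingHom.ker (g : A ⧸ K ^ (n + 1 + 1) →+* A ⧸ K ^ (n + 1))) := by
      refine ⟨2, le_bot_iff.1 ?_⟩
      have hle : RingHom.ker (g : A ⧸ K ^ (n + 1 + 1) →+* A ⧸ K ^ (n + 1)) ≤
          (K ^ (n + 1)).map (Ideal.Quotient.mk (K ^ (n + 1 + 1))) := by
        intro x hx
        obtain ⟨a, rfl⟩ := Ideal.Quotient.mk_surjective x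
        refine Ideal.mem_map_of_mem _ (Ideal.Quotient.eq_zero_iff_mem.1 ?_)
        exact RingHom.mem_ker.1 hx
      refine (Ideal.pow_right_mono hle 2).trans ?_
      rw [← Ideal.map_pow, ← pow_mul, Ideal.map_le_iff_le_comap]
      exact (Ideal.pow_le_pow_right (by omega)).trans
        (fun a ha => Ideal.Quotient.eq_zero_iff_mem.2 ha)
    exact ⟨Algebra.FormallySmooth.liftOfSurjective φ g hg hnil,
      Algebra.FormallySmooth.comp_liftOfSurjective φ g hg hnil⟩
  choose next hnext using hstep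
  refine ⟨fun n => Nat.rec ψ₀ (fun k φ => next k φ) n, rfl, fun n => hnext n _⟩

end Ring

variable {S : Scheme.{u}} (𝒥 : S.IdealSheafData)

/-- The adic system attached to an affine scheme over the base. -/
theorem exists_adic_lift {A : Type u} [CommRing A] (K : Ideal A) (t : Spec (CommRingCat.of A) ⟶ S)
    (hK : 𝒥.comap t = FSch.idealSpec A K) :
    ∃ p : FSch.spf A K ⟶ FSch.completionAlong S 𝒥, FSch.IsAdicHom p ∧
      (∀ n, (p : FSch.Hom _ _).app n ≫ FSch.completionToX S 𝒥 n = FSch.spfToSpec A K n ≫ t) ∧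
      (AlgebraicGeometry.Smooth t → ∀ n, AlgebraicGeometry.Smooth ((p : FSch.Hom _ _).app n)) := by
  have hker : ∀ n, (FSch.completionToX S 𝒥 n).ker.comap t = (FSch.spfToSpec A K n).ker := fun n => by
    rw [ker_completionToX, comap_pow, hK, ker_spfToSpec]
  have hle : ∀ n, (FSch.completionToX S 𝒥 n).ker ≤ (FSch.spfToSpec A K n ≫ t).ker := fun n => by
    have : IsClosedImmersion (FSch.spfToSpec A K n) :=
      spec_map_surjective_isClosedImmersion _ Ideal.Quotient.mk_surjective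
    refine le_of_le_of_eq ?_ (IdealSheafData.map_bot (FSch.spfToSpec A K n ≫ t))
    refine IdealSheafData.le_map_iff_comap_le.2 (le_of_eq ?_)
    exact (IdealSheafData.comap_comp _ _ _).trans
      ((congrArg (fun I => Scheme.IdealSheafData.comap I (FSch.spfToSpec A K n)) (hker n)).trans (comap_ker_self _))
  let app : ∀ n, (FSch.spf A K).X n ⟶ (FSch.completionAlong S 𝒥).X n := fun n =>
    IsClosedImmersion.lift (FSch.completionToX S 𝒥 n) (FSch.spfToSpec A K n ≫ t) (hle n)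
  have happ : ∀ n, app n ≫ FSch.completionToX S 𝒥 n = FSch.spfToSpec A K n ≫ t := fun n =>
    IsClosedImmersion.lift_fac _ _ _
  have hcomm : ∀ n, app n ≫ (FSch.completionAlong S 𝒥).ι n = (FSch.spf A K).ι n ≫ app (n + 1) := fun n => by
    rw [← cancel_mono (FSch.completionToX S 𝒥 (n + 1)), Category.assoc, Category.assoc,
      ι_completionToX, happ, happ, ← Category.assoc, ι_spfToSpec]
  have hsq : ∀ n, IsPullback (FSch.spfToSpec A K n) (app n) t (FSch.completionToX S 𝒥 n) := fun n => by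
    have : IsClosedImmersion (FSch.spfToSpec A K n) :=
      spec_map_surjective_isClosedImmersion _ Ideal.Quotient.mk_surjective
    exact AlgebraicGeometry.isPullback_of_isClosedImmersion _ _ _ _ (happ n).symm (hker n)
  refine ⟨⟨app, hcomm⟩, fun n => ?_, happ, fun hsm n => ?_⟩
  · refine IsPullback.of_right ?_ (hcomm n).symm (hsq (n + 1))
    rw [ι_spfToSpec, ι_completionToX]
    exact hsq n
  · exact MorphismProperty.of_isPullback (P := @AlgebraicGeometry.Smooth) (hsq n) hsm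

/-- A chart: an affine piece of a smooth scheme over the reduction lifts to a smooth affine scheme. -/
theorem exists_chart {X₀ : Scheme.{u}} (a : X₀ ⟶ (FSch.completionAlong S 𝒥).X 0)
    (W : S.Opens) (hW : IsAffineOpen W) (U : X₀.Opens) (hU : IsAffineOpen U)
    (e : U ≤ a ⁻¹ᵁ (FSch.completionToX S 𝒥 0 ⁻¹ᵁ W))
    (hs : (a.appLE _ U e).hom.IsStandardSmooth) :
    ∃ (A : Type u) (_ : CommRing A) (_ : Algebra Γ(S, W) A) (_ : Algebra.Smooth Γ(S, W) A)
      (ε : (A ⧸ ((𝒥.ideal ⟨W, hW⟩).map (algebraMap Γ(S, W) A)) ^ (0 + 1)) ≃+* Γ(X₀, U))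
      (p : FSch.spf A ((𝒥.ideal ⟨W, hW⟩).map (algebraMap Γ(S, W) A)) ⟶ FSch.completionAlong S 𝒥),
      FSch.IsAdicHom p ∧ (∀ n, AlgebraicGeometry.Smooth ((p : FSch.Hom _ _).app n)) ∧
      (∀ n, (p : FSch.Hom _ _).app n ≫ FSch.completionToX S 𝒥 n =
        FSch.spfToSpec A _ n ≫ Spec.map (CommRingCat.ofHom (algebraMap Γ(S, W) A)) ≫ hW.fromSpec) ∧
      Spec.map (CommRingCat.ofHom ε.symm.toRingHom) ≫ hU.fromSpec ≫ a =
        (p : FSch.Hom _ _).app 0 ∧
      ∀ r, ε (Ideal.Quotient.mk _ (algebraMap Γ(S, W) A r)) =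
        (a.appLE _ U e) ((FSch.completionToX S 𝒥 0).app W r) := by
  set i := FSch.completionToX S 𝒥 0
  let R := Γ(S, W)
  let R₀ := Γ((FSch.completionAlong S 𝒥).X 0, i ⁻¹ᵁ W)
  let J := 𝒥.ideal ⟨W, hW⟩
  have hπk : RingHom.ker (i.app W).hom = J := by
    have h1 := (Scheme.Hom.ker_apply i ⟨W, hW⟩).symm
    rw [ker_completionToX, zero_add, pow_one] at h1
    exact h1
  have hπs : Function.Surjective (i.app W).hom :=
    IdealSheafData.subschemeι_app_surjective _ ⟨W, hW⟩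
  let κ : R ⧸ J ≃+* R₀ := (Ideal.quotEquivOfEq hπk.symm).trans (RingHom.quotientKerEquivOfSurjective hπs)
  letI : Algebra R₀ Γ(X₀, U) := (a.appLE _ U e).hom.toAlgebra
  letI : Algebra (R ⧸ J) Γ(X₀, U) := ((a.appLE _ U e).hom.comp κ.toRingHom).toAlgebra
  letI : Algebra R Γ(X₀, U) := ((a.appLE _ U e).hom.comp (i.app W).hom).toAlgebra
  haveI : IsScalarTower R (R ⧸ J) Γ(X₀, U) := IsScalarTower.of_algebraMap_eq' (RingHom.ext fun r => rfl)
  haveI : Algebra.IsStandardSmooth (R ⧸ J) Γ(X₀, U) := by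
    have : ((a.appLE _ U e).hom.comp κ.toRingHom).IsStandardSmooth :=
      RingHom.isStandardSmooth_respectsIso.2 _ κ hs
    exact this
  obtain ⟨A, _, _, σ, hA, hσs, hσk⟩ := exists_standardSmooth_lift J Γ(X₀, U)
  let K : Ideal A := J.map (algebraMap R A)
  have hker : RingHom.ker σ.toRingHom = K ^ (0 + 1) := by rw [zero_add, pow_one]; exact hσk
  let ε : (A ⧸ K ^ (0 + 1)) ≃+* Γ(X₀, U) :=
    (Ideal.quotEquivOfEq hker.symm).trans (RingHom.quotientKerEquivOfSurjective hσs)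
  let t : Spec (CommRingCat.of A) ⟶ S := Spec.map (CommRingCat.ofHom (algebraMap R A)) ≫ hW.fromSpec
  have hK : 𝒥.comap t = FSch.idealSpec A K := by
    apply IdealSheafData.ext_of_isAffine
    rw [IdealSheafData.comap_comp, ideal_comap_SpecMap (CommRingCat.ofHom (algebraMap R A)) _ J ?_,
      FSch.idealSpec, ideal_ker_SpecMap]
    · simp only [CommRingCat.hom_ofHom, Ideal.mk_ker]
      rfl
    · rw [BlowUp.ideal_comap_eq_map _ hW.fromSpec ⟨W, hW⟩ ⟨⊤, isAffineOpen_top _⟩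
        (by exact hW.fromSpec_preimage_self.ge)]
      congr 1
      rw [Scheme.Hom.appLE, hW.fromSpec_app_self, Category.assoc, ← Functor.map_comp]
      refine congrArg CommRingCat.Hom.hom ((congrArg _ ?_).trans (Category.comp_id _))
      exact (congrArg _ (Subsingleton.elim _ (𝟙 _))).trans (CategoryTheory.Functor.map_id _ _)
  obtain ⟨p, hp, hpt, hps⟩ := exists_adic_lift 𝒥 K t hK
  haveI : AlgebraicGeometry.Smooth (Spec.map (CommRingCat.ofHom (algebraMap R A))) := by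
    rw [HasRingHomProperty.Spec_iff (P := @AlgebraicGeometry.Smooth)]
    exact RingHom.smooth_algebraMap.2 inferInstance
  refine ⟨A, inferInstance, inferInstance, inferInstance, ε, p, hp, hps inferInstance, hpt, ?_, ?_⟩
  · refine (cancel_mono i).1 ?_
    have h1 : hU.fromSpec ≫ a ≫ i = Spec.map ((i.app W) ≫ a.appLE _ U e) ≫ hW.fromSpec := by
      rw [← Category.assoc, ← IsAffineOpen.SpecMap_appLE_fromSpec a (hW.preimage i) hU e,
        Category.assoc, ← IsAffineOpen.SpecMap_appLE_fromSpec i hW (hW.preimage i) le_rfl,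
        ← Category.assoc, ← Spec.map_comp, Scheme.Hom.appLE_eq_app]
    simp only [Category.assoc]
    refine Eq.trans ?_ (hpt 0).symm
    rw [h1, ← Category.assoc, ← Category.assoc]
    congr 1
    change Spec.map _ ≫ Spec.map _ = Spec.map _ ≫ Spec.map _
    rw [← Spec.map_comp, ← Spec.map_comp]
    congr 1
    apply CommRingCat.hom_ext
    refine RingHom.ext fun r => ?_
    change ε.symm ((a.appLE _ U e) ((i.app W) r)) = Ideal.Quotient.mk _ (algebraMap R A r)
    rw [RingEquiv.symm_apply_eq]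
    exact (σ.commutes r).symm
  · intro r
    exact σ.commutes r

/-- The affine scheme of a ring isomorphic to the sections over an affine open. -/
noncomputable def chartIso {Z : Scheme.{u}} {O : Z.Opens} (hO : IsAffineOpen O) {C : Type u} [CommRing C]
    (ε : C ≃+* Γ(Z, O)) : Spec (CommRingCat.of C) ≅ O.toScheme :=
  (Scheme.Spec.mapIso ε.toCommRingCatIso.op).symm ≪≫ hO.isoSpec.symm

lemma chartIso_hom_ι {Z : Scheme.{u}} {O : Z.Opens} (hO : IsAffineOpen O) {C : Type u} [CommRing C]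
    (ε : C ≃+* Γ(Z, O)) : (chartIso hO ε).hom ≫ O.ι =
      Spec.map (CommRingCat.ofHom ε.symm.toRingHom) ≫ hO.fromSpec := by
  simp only [chartIso, Iso.trans_hom, Iso.symm_hom, Category.assoc]
  rfl

/-- Local smooth formal lifting of a morphism. -/
theorem exists_smooth_formal_lifting [IsLocallyNoetherian S] {X₀ Y₀ : Scheme.{u}}
    (a : X₀ ⟶ (FSch.completionAlong S 𝒥).X 0) (b : Y₀ ⟶ (FSch.completionAlong S 𝒥).X 0)
    [AlgebraicGeometry.Smooth a] [AlgebraicGeometry.Smooth b] (f : X₀ ⟶ Y₀) (w : f ≫ b = a) (x : X₀) :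
    ∃ (U₀ : X₀.Opens) (V₀ : Y₀.Opens) (_hU : x ∈ U₀) (hUV : U₀ ≤ f ⁻¹ᵁ V₀)
      (𝔘 𝔙 : FSch.Sys.{u}) (p : 𝔘 ⟶ FSch.completionAlong S 𝒥) (q : 𝔙 ⟶ FSch.completionAlong S 𝒥)
      (Φ : 𝔘 ⟶ 𝔙) (eU : 𝔘.X 0 ≅ U₀.toScheme) (eV : 𝔙.X 0 ≅ V₀.toScheme),
      Φ ≫ q = p ∧ FSch.IsAdicHom p ∧ FSch.IsAdicHom q ∧
      (∀ n : ℕ, AlgebraicGeometry.Smooth ((p : FSch.Hom 𝔘 _).app n)) ∧
      (∀ n : ℕ, AlgebraicGeometry.Smooth ((q : FSch.Hom 𝔙 _).app n)) ∧
      eU.hom ≫ U₀.ι ≫ a = (p : FSch.Hom 𝔘 _).app 0 ∧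
      eV.hom ≫ V₀.ι ≫ b = (q : FSch.Hom 𝔙 _).app 0 ∧
      (Φ : FSch.Hom 𝔘 𝔙).app 0 ≫ eV.hom = eU.hom ≫ f.resLE V₀ U₀ hUV := by
  set i := FSch.completionToX S 𝒥 0
  obtain ⟨_, ⟨W, hW, rfl⟩, hxW, -⟩ := S.isBasis_affineOpens.exists_subset_of_mem_open
    (Set.mem_univ (i (a x))) isOpen_univ
  have hW₀ : IsAffineOpen (i ⁻¹ᵁ W) := hW.preimage i
  have loc : ∀ {Z : Scheme.{u}} (c : Z ⟶ (FSch.completionAlong S 𝒥).X 0) [AlgebraicGeometry.Smooth c]
      (O : Z.Opens) (z : Z), z ∈ O → O ≤ c ⁻¹ᵁ (i ⁻¹ᵁ W) →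
      ∃ (V : Z.Opens) (_ : IsAffineOpen V) (e : V ≤ c ⁻¹ᵁ (i ⁻¹ᵁ W)),
        z ∈ V ∧ V ≤ O ∧ (c.appLE _ V e).hom.IsStandardSmooth := by
    intro Z c _ O z hz hO
    obtain ⟨_, ⟨V, hV, rfl⟩, hzV, hVO⟩ := Z.isBasis_affineOpens.exists_subset_of_mem_open hz O.2
    have e : V ≤ c ⁻¹ᵁ (i ⁻¹ᵁ W) := (show V ≤ O from hVO).trans hO
    have hl := RingHom.smooth_iff_locally_isStandardSmooth.1 (c.smooth_appLE hW₀ hV e)
    obtain ⟨s, hs, hs'⟩ := hl
    obtain ⟨g, hgs, hzg⟩ : ∃ g ∈ s, z ∈ Z.basicOpen g := by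
      by_contra hcon
      push Not at hcon
      have h1 := (IsAffineOpen.iSup_basicOpen_eq_self_iff (hU := hV) (s := s)).2 hs
      have : z ∈ (⨆ g : s, Z.basicOpen (g : Γ(Z, V))) := h1.symm ▸ hzV
      obtain ⟨⟨g, hg⟩, hzg⟩ := TopologicalSpace.Opens.mem_iSup.1 this
      exact hcon g hg hzg
    refine ⟨Z.basicOpen g, hV.basicOpen g, (Z.basicOpen_le g).trans e, hzg,
      (Z.basicOpen_le g).trans hVO, ?_⟩
    have := hV.isLocalization_basicOpen g
    have key := hs' g hgs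
    let ρ : Localization.Away g ≃ₐ[Γ(Z, V)] Γ(Z, Z.basicOpen g) :=
      IsLocalization.algEquiv (Submonoid.powers g) _ _
    have h2 : (c.appLE (i ⁻¹ᵁ W) (Z.basicOpen g) ((Z.basicOpen_le g).trans e)).hom =
        (ρ.toRingEquiv.toRingHom).comp ((algebraMap Γ(Z, V) (Localization.Away g)).comp (c.appLE _ V e).hom) := by
      rw [← Scheme.Hom.appLE_map c e (homOfLE (Z.basicOpen_le g)).op]
      ext r
      exact (ρ.commutes _).symm
    rw [h2]
    exact RingHom.isStandardSmooth_respectsIso.1 _ ρ.toRingEquiv key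
  obtain ⟨V₀, hV₀, eV', hyV, -, hVs⟩ := loc b _ (f x) (show f x ∈ b ⁻¹ᵁ (i ⁻¹ᵁ W) by
    change i (b (f x)) ∈ W
    rw [← Scheme.Hom.comp_apply f b, w]
    exact hxW) le_rfl
  obtain ⟨U₀, hU₀, eU', hxU, hUV, hUs⟩ := loc a (f ⁻¹ᵁ V₀) x hyV (by
    rw [← w, Scheme.Hom.comp_preimage]
    exact f.preimage_mono eV')
  obtain ⟨A, _, _, _, εA, p, hp, hps, hpt, hp0, hεA⟩ := exists_chart 𝒥 a W hW U₀ hU₀ eU' hUs
  obtain ⟨B, _, _, _, εB, q, hq, hqs, hqt, hq0, hεB⟩ := exists_chart 𝒥 b W hW V₀ hV₀ eV' hVs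
  let ψ₀ : B →ₐ[Γ(S, W)] A ⧸ ((𝒥.ideal ⟨W, hW⟩).map (algebraMap Γ(S, W) A)) ^ (0 + 1) :=
    { toRingHom := εA.symm.toRingHom.comp ((f.appLE V₀ U₀ hUV).hom.comp
        (εB.toRingHom.comp (Ideal.Quotient.mk _)))
      commutes' := fun r => by
        apply εA.injective
        simp only [RingHom.coe_comp, Function.comp_apply, RingEquiv.toRingHom_eq_coe, RingHom.coe_coe,
          RingEquiv.apply_symm_apply, RingHom.toMonoidHom_eq_coe, OneHom.toFun_eq_coe,
          MonoidHom.toOneHom_coe, MonoidHom.coe_coe]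
        refine (congrArg (f.appLE V₀ U₀ hUV).hom (hεB r)).trans (Eq.trans ?_ (hεA r).symm)
        rw [← CategoryTheory.comp_apply, Scheme.Hom.appLE_comp_appLE]
        subst w
        rfl }
  obtain ⟨ψ, hψ0, hψ⟩ := exists_compatible_lifts ((𝒥.ideal ⟨W, hW⟩).map (algebraMap Γ(S, W) A)) ψ₀
  have hψL : ∀ n, ((𝒥.ideal ⟨W, hW⟩).map (algebraMap Γ(S, W) B)) ^ (n + 1) ≤ RingHom.ker (ψ n).toRingHom := by
    intro n
    have h1 : ((𝒥.ideal ⟨W, hW⟩).map (algebraMap Γ(S, W) B)) ≤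
        (((𝒥.ideal ⟨W, hW⟩).map (algebraMap Γ(S, W) A)).map (Ideal.Quotient.mk (((𝒥.ideal ⟨W, hW⟩).map (algebraMap Γ(S, W) A)) ^ (n + 1)))).comap (ψ n).toRingHom :=
      Ideal.map_le_iff_le_comap.2 fun r hr => by
        change ψ n (algebraMap _ B r) ∈ ((𝒥.ideal ⟨W, hW⟩).map (algebraMap Γ(S, W) A)).map (Ideal.Quotient.mk (((𝒥.ideal ⟨W, hW⟩).map (algebraMap Γ(S, W) A)) ^ (n + 1)))
        rw [(ψ n).commutes]
        exact Ideal.mem_map_of_mem _ (Ideal.mem_map_of_mem (algebraMap Γ(S, W) A) hr)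
    refine (Ideal.pow_right_mono h1 (n + 1)).trans ((Ideal.le_comap_pow _ _).trans ?_)
    refine Ideal.comap_mono (le_of_eq ?_)
    exact (Ideal.map_pow _ _ _).symm.trans (Ideal.map_quotient_self _)
  let ξ : ∀ n, B ⧸ ((𝒥.ideal ⟨W, hW⟩).map (algebraMap Γ(S, W) B)) ^ (n + 1) →+* A ⧸ ((𝒥.ideal ⟨W, hW⟩).map (algebraMap Γ(S, W) A)) ^ (n + 1) := fun n =>
    Ideal.Quotient.lift (((𝒥.ideal ⟨W, hW⟩).map (algebraMap Γ(S, W) B)) ^ (n + 1)) (ψ n).toRingHom fun z hz => hψL n hz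
  let Φ : FSch.spf A ((𝒥.ideal ⟨W, hW⟩).map (algebraMap Γ(S, W) A)) ⟶ FSch.spf B ((𝒥.ideal ⟨W, hW⟩).map (algebraMap Γ(S, W) B)) :=
    ⟨fun n => Spec.map (CommRingCat.ofHom (ξ n)), fun n => by
      change Spec.map _ ≫ Spec.map _ = Spec.map _ ≫ Spec.map _
      rw [← Spec.map_comp, ← Spec.map_comp, ← CommRingCat.ofHom_comp, ← CommRingCat.ofHom_comp]
      congr 2
      apply Ideal.Quotient.ringHom_ext
      ext z
      exact (AlgHom.congr_fun (hψ n) z).symm⟩
  refine ⟨U₀, V₀, hxU, hUV, FSch.spf A ((𝒥.ideal ⟨W, hW⟩).map (algebraMap Γ(S, W) A)), FSch.spf B ((𝒥.ideal ⟨W, hW⟩).map (algebraMap Γ(S, W) B)), p, q, Φ, chartIso hU₀ εA, chartIso hV₀ εB,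
    ?_, hp, hq, hps, hqs, ?_, ?_, ?_⟩
  · apply FSch.Hom.ext
    funext n
    refine (cancel_mono (FSch.completionToX S 𝒥 n)).1 ?_
    rw [FSch.comp_app, Category.assoc, hqt, hpt, ← Category.assoc, ← Category.assoc, ← Category.assoc]
    congr 1
    change (Spec.map _ ≫ Spec.map _) ≫ Spec.map _ = Spec.map _ ≫ Spec.map _
    simp only [← Spec.map_comp, ← CommRingCat.ofHom_comp]
    congr 2
    ext r
    exact (ψ n).commutes r
  · exact ((Category.assoc _ _ _).symm.trans ((congrArg (· ≫ a) (chartIso_hom_ι hU₀ εA)).trans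
      (Category.assoc _ _ _))).trans hp0
  · exact ((Category.assoc _ _ _).symm.trans ((congrArg (· ≫ b) (chartIso_hom_ι hV₀ εB)).trans
      (Category.assoc _ _ _))).trans hq0
  · refine (cancel_mono V₀.ι).1 ?_
    refine (Category.assoc _ _ _).trans (((congrArg (_ ≫ ·) (chartIso_hom_ι hV₀ εB))).trans ?_)
    refine Eq.trans ?_ ((Category.assoc _ _ _).trans (congrArg (_ ≫ ·) (Scheme.Hom.resLE_comp_ι f hUV))).symm
    refine Eq.trans ?_ ((Category.assoc _ _ _).symm.trans ((congrArg (· ≫ f) (chartIso_hom_ι hU₀ εA)).trans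
      (Category.assoc _ _ _))).symm
    rw [← IsAffineOpen.SpecMap_appLE_fromSpec f hV₀ hU₀ hUV]
    refine (Category.assoc _ _ _).symm.trans (Eq.trans ?_ (Category.assoc _ _ _))
    congr 1
    change Spec.map _ ≫ Spec.map _ = Spec.map _ ≫ Spec.map _
    rw [← Spec.map_comp, ← Spec.map_comp]
    congr 1
    apply CommRingCat.hom_ext
    refine RingHom.ext fun v => ?_
    obtain ⟨z, hz⟩ := Ideal.Quotient.mk_surjective (εB.symm v)
    change ξ 0 (εB.symm v) = εA.symm ((f.appLE V₀ U₀ hUV) v)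
    rw [← hz]
    change ψ 0 z = _
    rw [hψ0]
    change εA.symm ((f.appLE V₀ U₀ hUV) (εB (Ideal.Quotient.mk _ z))) = _
    rw [hz, RingEquiv.apply_symm_apply]

end GrothLib.FSchSys
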