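import Groth.Agent.Lib.FSchSys.ComplFlat
import Mathlib.RingTheory.Flat.EquationalCriterion
import Mathlib.RingTheory.Flat.FaithfullyFlat.Algebra
import Mathlib.RingTheory.Flat.Localization
import Mathlib.RingTheory.Localization.LocalizationLocalization

/-!
# The stalk ring of a formal spectrum
-/

universe u

open scoped TensorProduct

namespace GrothLib.FSchSys

variable {A : Type u} [CommRing A] (J 𝔭 : Ideal A) [𝔭.IsPrime]

lemma mul_notMem {f g : A} (hf : f ∉ 𝔭) (hg : g ∉ 𝔭) : f * g ∉ 𝔭 :=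
  fun h => (‹𝔭.IsPrime›.mem_or_mem h).elim hf hg

lemma awayToAtPrime_algebraMap {f : A} (hf : f ∉ 𝔭) (a : A) :
    FSch.awayToAtPrime A 𝔭 f hf (algebraMap A _ a) = algebraMap A _ a :=
  IsLocalization.Away.lift_eq f _ a

/-- The localization map `A_f → A_g` for `f ∣ g`. -/
noncomputable def awayTrans {f g : A} (hfg : f ∣ g) : Localization.Away f →+* Localization.Away g :=
  IsLocalization.Away.lift f (g := algebraMap A (Localization.Away g))
    (isUnit_of_dvd_unit (map_dvd _ hfg) (IsLocalization.Away.algebraMap_isUnit g))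

lemma awayTrans_algebraMap {f g : A} (hfg : f ∣ g) (a : A) :
    awayTrans hfg (algebraMap A _ a) = algebraMap A _ a :=
  IsLocalization.Away.lift_eq f _ a

lemma map_awayTrans {f g : A} (hfg : f ∣ g) :
    (J.map (algebraMap A (Localization.Away f))).map (awayTrans hfg) =
      J.map (algebraMap A (Localization.Away g)) := by
  rw [Ideal.map_map, show (awayTrans hfg).comp (algebraMap A (Localization.Away f)) =
    algebraMap A (Localization.Away g) from RingHom.ext (awayTrans_algebraMap hfg)]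

lemma awayToAtPrime_comp_awayTrans {f g : A} (hf : f ∉ 𝔭) (hg : g ∉ 𝔭) (hfg : f ∣ g) :
    (FSch.awayToAtPrime A 𝔭 g hg).comp (awayTrans hfg) = FSch.awayToAtPrime A 𝔭 f hf :=
  IsLocalization.ringHom_ext (Submonoid.powers f) (RingHom.ext fun a => by
    simp only [RingHom.comp_apply, awayTrans_algebraMap, awayToAtPrime_algebraMap])

/-- The transition map `A_{f} → A_{g}` between completed localisations, for `f ∣ g`. -/
noncomputable def cAwayTrans {f g : A} (hfg : f ∣ g) : FSch.cAway A J f →+* FSch.cAway A J g :=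
  FSch.complMap _ _ (awayTrans hfg) (map_awayTrans J hfg).le

lemma cAwayToAtPrime_cAwayTrans {f g : A} (hf : f ∉ 𝔭) (hg : g ∉ 𝔭) (hfg : f ∣ g)
    (x : FSch.cAway A J f) :
    FSch.cAwayToAtPrime A J 𝔭 g hg (cAwayTrans J hfg x) = FSch.cAwayToAtPrime A J 𝔭 f hf x :=
  complMap_comp _ _ _ _ _ _ _ _ _ (awayToAtPrime_comp_awayTrans 𝔭 hf hg hfg) x

lemma range_cAwayToAtPrime_le {f g : A} (hf : f ∉ 𝔭) (hg : g ∉ 𝔭) (hfg : f ∣ g) :
    (FSch.cAwayToAtPrime A J 𝔭 f hf).range ≤ (FSch.cAwayToAtPrime A J 𝔭 g hg).range := by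
  rintro _ ⟨x, rfl⟩
  exact ⟨cAwayTrans J hfg x, cAwayToAtPrime_cAwayTrans J 𝔭 hf hg hfg x⟩

lemma directed_range : Directed (· ≤ ·) fun f : {f : A // f ∉ 𝔭} =>
    (FSch.cAwayToAtPrime A J 𝔭 f.1 f.2).range := fun f g =>
  ⟨⟨f.1 * g.1, mul_notMem 𝔭 f.2 g.2⟩,
    range_cAwayToAtPrime_le J 𝔭 f.2 _ (dvd_mul_right _ _),
    range_cAwayToAtPrime_le J 𝔭 g.2 _ (dvd_mul_left _ _)⟩

lemma mem_stalkSubring_iff {x : FSch.cAtPrime A J 𝔭} :
    x ∈ FSch.stalkSubring A J 𝔭 ↔ ∃ (f : A) (hf : f ∉ 𝔭), x ∈ (FSch.cAwayToAtPrime A J 𝔭 f hf).range := by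
  have : Nonempty {f : A // f ∉ 𝔭} := ⟨⟨1, fun h => ‹𝔭.IsPrime›.ne_top ((Ideal.eq_top_iff_one _).mpr h)⟩⟩
  rw [FSch.stalkSubring, Subring.mem_iSup_of_directed (directed_range J 𝔭)]
  exact ⟨fun ⟨f, hf⟩ => ⟨f.1, f.2, hf⟩, fun ⟨f, hf, h⟩ => ⟨⟨f, hf⟩, h⟩⟩

variable (hJ : J ≤ 𝔭)

include hJ in
lemma isLocalRing_cAtPrime : IsLocalRing (FSch.cAtPrime A J 𝔭) := by
  set K := J.map (algebraMap A (Localization.AtPrime 𝔭))
  have hK : K ≠ ⊤ := fun h => (IsLocalRing.maximalIdeal.isMaximal _).ne_top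
    (top_le_iff.mp (h.ge.trans ((Ideal.map_mono hJ).trans
      (IsLocalization.AtPrime.map_eq_maximalIdeal 𝔭 _).le)))
  have : Nontrivial (Localization.AtPrime 𝔭 ⧸ K) := Ideal.Quotient.nontrivial_iff.mpr hK
  have := IsLocalRing.of_surjective' (Ideal.Quotient.mk K) Ideal.Quotient.mk_surjective
  have : Nontrivial (FSch.cAtPrime A J 𝔭) := (AdicCompletion.evalOneₐ K).toRingHom.domain_nontrivial
  refine IsLocalRing.of_isUnit_or_isUnit_one_sub_self fun x => ?_
  refine (IsLocalRing.isUnit_or_isUnit_one_sub_self (AdicCompletion.evalOneₐ K x)).imp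
    (AdicExtra.isUnit_of_isUnit_evalOne x) fun h => AdicExtra.isUnit_of_isUnit_evalOne _ ?_
  rwa [map_sub, map_one]

include hJ in
lemma notMem_of_isUnit_quot {f a : A} (hf : f ∉ 𝔭) {y : Localization.Away f} {k : ℕ}
    (ha : y * algebraMap A _ (f ^ k) = algebraMap A _ a)
    (h : IsUnit (Ideal.Quotient.mk (J.map (algebraMap A (Localization.AtPrime 𝔭)))
      (FSch.awayToAtPrime A 𝔭 f hf y))) : a ∉ 𝔭 := by
  intro hap
  set K := J.map (algebraMap A (Localization.AtPrime 𝔭))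
  have hK : K ≤ IsLocalRing.maximalIdeal (Localization.AtPrime 𝔭) :=
    (Ideal.map_mono hJ).trans (IsLocalization.AtPrime.map_eq_maximalIdeal 𝔭 _).le
  have h1 := congrArg (FSch.awayToAtPrime A 𝔭 f hf) ha
  rw [map_mul, awayToAtPrime_algebraMap, awayToAtPrime_algebraMap] at h1
  have h2 : IsUnit (Ideal.Quotient.mk K (algebraMap A (Localization.AtPrime 𝔭) a)) := by
    rw [← h1, map_mul]
    exact h.mul ((IsLocalization.map_units (Localization.AtPrime 𝔭)
      (⟨f ^ k, fun hk => hf (‹𝔭.IsPrime›.mem_of_pow_mem k hk)⟩ : 𝔭.primeCompl)).map _)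
  obtain ⟨w, hw⟩ := h2.exists_right_inv
  obtain ⟨w, rfl⟩ := Ideal.Quotient.mk_surjective w
  rw [← map_mul, ← map_one (Ideal.Quotient.mk K), Ideal.Quotient.eq] at hw
  have h4 : algebraMap A (Localization.AtPrime 𝔭) a ∈ IsLocalRing.maximalIdeal _ :=
    (IsLocalization.AtPrime.to_map_mem_maximal_iff _ 𝔭 a).mpr hap
  refine (IsLocalRing.maximalIdeal.isMaximal (Localization.AtPrime 𝔭)).ne_top ((Ideal.eq_top_iff_one _).mpr ?_)
  simpa using sub_mem (Ideal.mul_mem_right w _ h4) (hK hw)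

lemma isUnit_quot_awayTrans {f a : A} {y : Localization.Away f} {k : ℕ}
    (ha : y * algebraMap A _ (f ^ k) = algebraMap A _ a) :
    IsUnit (awayTrans (dvd_mul_right f a) y) := by
  have h1 := congrArg (awayTrans (dvd_mul_right f a)) ha
  rw [map_mul, awayTrans_algebraMap, awayTrans_algebraMap] at h1
  refine isUnit_of_mul_isUnit_left (y := algebraMap A _ (f ^ k)) ?_
  rw [h1]
  exact isUnit_of_dvd_unit (map_dvd _ (dvd_mul_left a f))
    (IsLocalization.Away.algebraMap_isUnit _)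

include hJ in
lemma isUnit_of_isUnit_coe {x : FSch.stalkSubring A J 𝔭} (hx : IsUnit (x : FSch.cAtPrime A J 𝔭)) :
    IsUnit x := by
  obtain ⟨f, hf, z, hz⟩ := (mem_stalkSubring_iff J 𝔭).mp x.2
  obtain ⟨y, hy⟩ := Ideal.Quotient.mk_surjective
    (AdicCompletion.evalOneₐ (J.map (algebraMap A (Localization.Away f))) z)
  obtain ⟨⟨a, _, k, rfl⟩, ha⟩ := IsLocalization.surj (Submonoid.powers f) y
  have hap : a ∉ 𝔭 := by
    refine notMem_of_isUnit_quot J 𝔭 hJ hf ha ?_
    have h := hx.map (AdicCompletion.evalOneₐ (J.map (algebraMap A (Localization.AtPrime 𝔭))))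
    rw [← hz, FSch.cAwayToAtPrime, evalOneₐ_complMap, ← hy, Ideal.quotientMap_mk] at h
    exact h
  have hfa : f * a ∉ 𝔭 := mul_notMem 𝔭 hf hap
  set z' := cAwayTrans J (dvd_mul_right f a) z
  have hz' : FSch.cAwayToAtPrime A J 𝔭 (f * a) hfa z' = x :=
    (cAwayToAtPrime_cAwayTrans J 𝔭 hf hfa _ z).trans hz
  have hunit : IsUnit z' := by
    refine AdicExtra.isUnit_of_isUnit_evalOne _ ?_
    rw [show z' = cAwayTrans J (dvd_mul_right f a) z from rfl, cAwayTrans, evalOneₐ_complMap, ← hy,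
      Ideal.quotientMap_mk]
    exact (isUnit_quot_awayTrans ha).map _
  refine IsUnit.of_mul_eq_one ⟨FSch.cAwayToAtPrime A J 𝔭 (f * a) hfa ↑(hunit.unit⁻¹),
    (mem_stalkSubring_iff J 𝔭).mpr ⟨_, hfa, _, rfl⟩⟩ (Subtype.ext ?_)
  change (x : FSch.cAtPrime A J 𝔭) * _ = 1
  rw [← hz', ← map_mul, hunit.mul_val_inv, map_one]

include hJ in
lemma isLocalHom_subtype : IsLocalHom (FSch.stalkSubring A J 𝔭).subtype :=
  ⟨fun _ hx => isUnit_of_isUnit_coe J 𝔭 hJ hx⟩

include hJ in
lemma isLocalRing_stalkSubring : IsLocalRing (FSch.stalkSubring A J 𝔭) := by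
  have := isLocalRing_cAtPrime J 𝔭 hJ
  exact IsLocalRing.of_isUnit_or_isUnit_one_sub_self fun x =>
    (IsLocalRing.isUnit_or_isUnit_one_sub_self (x : FSch.cAtPrime A J 𝔭)).imp
      (isUnit_of_isUnit_coe J 𝔭 hJ) fun h => isUnit_of_isUnit_coe J 𝔭 hJ (by simpa using h)

lemma flat_cAwayToAtPrime [IsNoetherianRing A] {f : A} (hf : f ∉ 𝔭) :
    (FSch.cAwayToAtPrime A J 𝔭 f hf).Flat := by
  have : IsNoetherianRing (Localization.Away f) :=
    IsLocalization.isNoetherianRing (Submonoid.powers f) _ inferInstance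
  have : IsNoetherianRing (Localization.AtPrime 𝔭) :=
    IsLocalization.isNoetherianRing 𝔭.primeCompl _ inferInstance
  refine flat_complMap (J.map (algebraMap A (Localization.Away f)))
    (FSch.awayToAtPrime A 𝔭 f hf) ?_ _ ?_
  · let := (FSch.awayToAtPrime A 𝔭 f hf).toAlgebra
    have : IsScalarTower A (Localization.Away f) (Localization.AtPrime 𝔭) :=
      IsScalarTower.of_algebraMap_eq fun a => (awayToAtPrime_algebraMap 𝔭 hf a).symm
    have := IsLocalization.isLocalization_of_submonoid_le (Localization.Away f)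
      (Localization.AtPrime 𝔭) (Submonoid.powers f) 𝔭.primeCompl
      (Submonoid.powers_le.mpr hf)
    exact IsLocalization.flat (Localization.AtPrime 𝔭)
      (𝔭.primeCompl.map (algebraMap A (Localization.Away f)))
  · rw [Ideal.map_map, show (FSch.awayToAtPrime A 𝔭 f hf).comp
      (algebraMap A (Localization.Away f)) = algebraMap A (Localization.AtPrime 𝔭) from
      RingHom.ext fun a => awayToAtPrime_algebraMap 𝔭 hf a]

instance flat_stalkSubring [IsNoetherianRing A] :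
    Module.Flat (FSch.stalkSubring A J 𝔭) (FSch.cAtPrime A J 𝔭) := by
  classical
  rw [Module.Flat.iff_forall_isTrivialRelation]
  intro l r x hrel
  choose f hf hr using fun i => (mem_stalkSubring_iff J 𝔭).mp (r i).2
  let g : A := ∏ i, f i
  have hg : g ∉ 𝔭 := fun h => by
    obtain ⟨i, -, hi⟩ := ‹𝔭.IsPrime›.prod_mem_iff.mp h
    exact hf i hi
  choose z hz using fun i => range_cAwayToAtPrime_le J 𝔭 (hf i) hg
    (Finset.dvd_prod_of_mem f (Finset.mem_univ i)) (hr i)
  let := (FSch.cAwayToAtPrime A J 𝔭 g hg).toAlgebra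
  have : Module.Flat (FSch.cAway A J g) (FSch.cAtPrime A J 𝔭) := flat_cAwayToAtPrime J 𝔭 hg
  have hrel' : ∑ i, z i • x i = 0 := by
    rw [← hrel]
    exact Finset.sum_congr rfl fun i _ => by rw [Algebra.smul_def]; exact congrArg (· * x i) (hz i)
  obtain ⟨k, a, y, hx, ha⟩ := Module.Flat.isTrivialRelation_of_sum_smul_eq_zero hrel'
  refine ⟨k, fun i j => ⟨algebraMap _ _ (a i j),
    (mem_stalkSubring_iff J 𝔭).mpr ⟨g, hg, _, rfl⟩⟩, y, fun i => ?_, fun j => Subtype.ext ?_⟩
  · rw [hx i]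
    exact Finset.sum_congr rfl fun j _ => by rw [Algebra.smul_def]; rfl
  · have := congrArg (algebraMap (FSch.cAway A J g) (FSch.cAtPrime A J 𝔭)) (ha j)
    simp only [map_sum, map_mul, map_zero] at this
    rw [AddSubmonoidClass.coe_finsetSum]
    refine (Finset.sum_congr rfl fun i _ => ?_).trans this
    exact congrArg (· * _) (hz i).symm

include hJ in
lemma faithfullyFlat_stalkSubring [IsNoetherianRing A] :
    Module.FaithfullyFlat (FSch.stalkSubring A J 𝔭) (FSch.cAtPrime A J 𝔭) := by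
  have := isLocalRing_cAtPrime J 𝔭 hJ
  have := isLocalRing_stalkSubring J 𝔭 hJ
  have : IsLocalHom (algebraMap (FSch.stalkSubring A J 𝔭) (FSch.cAtPrime A J 𝔭)) :=
    isLocalHom_subtype J 𝔭 hJ
  exact Module.FaithfullyFlat.of_flat_of_isLocalHom

/-- A ring with a faithfully flat Noetherian algebra is Noetherian. -/
lemma isNoetherianRing_of_faithfullyFlat (R S : Type*) [CommRing R] [CommRing S] [Algebra R S]
    [Module.FaithfullyFlat R S] [IsNoetherianRing S] : IsNoetherianRing R := by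
  refine isNoetherianRing_iff.mpr (isNoetherian_iff'.mpr ?_)
  have hmono : StrictMono (Ideal.map (algebraMap R S)) := by
    refine Monotone.strictMono_of_injective (fun _ _ h => Ideal.map_mono h) fun I I' h => ?_
    rw [← Ideal.comap_map_eq_self_of_faithfullyFlat (B := S) I, h,
      Ideal.comap_map_eq_self_of_faithfullyFlat]
  exact hmono.wellFoundedGT

include hJ in
lemma isNoetherianRing_stalkSubring [IsNoetherianRing A] :
    IsNoetherianRing (FSch.stalkSubring A J 𝔭) := by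
  have : IsNoetherianRing (Localization.AtPrime 𝔭) :=
    IsLocalization.isNoetherianRing 𝔭.primeCompl _ inferInstance
  have := faithfullyFlat_stalkSubring J 𝔭 hJ
  exact isNoetherianRing_of_faithfullyFlat _ (FSch.cAtPrime A J 𝔭)

end GrothLib.FSchSys
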